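import Groth.Agent.OneMotFaithLib.SemiAbIso

/-!
# Torsion realizations are conservative
-/

set_option autoImplicit false
set_option backward.isDefEq.respectTransparency false
set_option backward.isDefEq.respectTransparency.types false
set_option linter.style.haveILetI false

universe u

open CategoryTheory CategoryTheory.Limits MonoidalCategory CartesianMonoidalCategory MonObj AlgebraicGeometry Opposite

noncomputable section

namespace Groth.Agent.OneMotFaithLib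

variable {k : Type u} [Field k] [IsAlgClosed k]

local notation "pt₀" => 𝟙_ (Over (Spec (CommRingCat.of k)))

omit [IsAlgClosed k] in
theorem exists_section_of_pts {L L' : Over (Spec (CommRingCat.of k))} (u : L ⟶ L')
    (hsur : ∀ {U : Over (Spec (CommRingCat.of k))} (q : U ⟶ L'),
      ∃ R ∈ QuotSh.J Scheme.fppfPrecoverage (Spec (CommRingCat.of k)) U, ∀ ⦃V⦄ (g : V ⟶ U), R g → ∃ x, x ≫ u = g ≫ q)
    (hinj : ∀ {U : Over (Spec (CommRingCat.of k))} (a b : U ⟶ L), a ≫ u = b ≫ u → a = b) : IsIso u := by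
  obtain ⟨R, hR, hR'⟩ := hsur (𝟙 L')
  choose x hx using hR'
  obtain ⟨s, hs⟩ := FppfExtLib.exists_glue (W := L) hR x (fun T₁ T₂ g₁ h₁ a h₂ => hinj _ _ (by
    rw [hx, Category.assoc, Category.assoc, hx]))
  have hsu : s ≫ u = 𝟙 L' := FppfExtLib.hom_ext_sieve hR _ _ fun T g hg => by
    rw [← Category.assoc, hs g hg, hx]
  exact ⟨s, hinj _ _ (by rw [Category.assoc, hsu, Category.comp_id, Category.id_comp]), hsu⟩

/-- A homomorphism of lattices bijective on rational points is an isomorphism. -/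
theorem isIso_lattice {L L' : Over (Spec (CommRingCat.of k))} [GrpObj L] [IsCommMonObj L] [GrpObj L'] [IsCommMonObj L']
    (hL : OneMot.IsLattice L) (hL' : OneMot.IsLattice L') (u : L ⟶ L') [IsMonHom u]
    (hinj : ∀ x x' : pt₀ ⟶ L, x ≫ u = x' ≫ u → x = x') (hsur : ∀ y : pt₀ ⟶ L', ∃ x, x ≫ u = y) : IsIso u := by
  obtain ⟨B⟩ := exists_basis hL
  obtain ⟨B'⟩ := exists_basis hL'
  let P : (Fin B.r → ℤ) → (pt₀ ⟶ L) := fun n => (B.Φ n).down.toMul
  let P' : (Fin B'.r → ℤ) → (pt₀ ⟶ L') := fun n => (B'.Φ n).down.toMul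
  have hP' : ∀ n, ∃ n', P' n' = P n ≫ u := fun n => by
    obtain ⟨n', hn'⟩ := exists_eq_Φ B' (P n ≫ u)
    exact ⟨n', congrArg (fun z : ULift.{u + 1} (Additive (pt₀ ⟶ L')) => z.down.toMul) hn'⟩
  choose σ hσ using hP'
  have hσi : Function.Injective σ := fun n m h => Φ_injective B (ULift.ext _ _
    (congrArg Additive.ofMul (hinj (P n) (P m) (by rw [← hσ, ← hσ, h]))))
  refine exists_section_of_pts u (fun {U} q => ?_) fun {U} a b hab => ?_
  · obtain ⟨R, hR, hR'⟩ := B'.gen (toUnit U) (ULift.up (Additive.ofMul q))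
    refine ⟨R, hR, fun V g hg => ?_⟩
    obtain ⟨n', hn'⟩ := hR' g hg
    obtain ⟨y, hy⟩ := hsur (P' n')
    exact ⟨(g ≫ toUnit U) ≫ y, by
      rw [Category.assoc, hy]
      exact (congrArg (fun z : ULift.{u + 1} (Additive (V ⟶ L')) => z.down.toMul) hn').symm⟩
  · obtain ⟨R, hR, hR'⟩ := B.gen (toUnit U) (ULift.up (Additive.ofMul a))
    obtain ⟨R₂, hR₂, hR₂'⟩ := B.gen (toUnit U) (ULift.up (Additive.ofMul b))
    refine FppfExtLib.hom_ext_sieve ((QuotSh.J Scheme.fppfPrecoverage (Spec (CommRingCat.of k))).intersection_covering hR hR₂)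
      a b fun V g hg => ?_
    obtain ⟨n, hn⟩ := hR' g hg.1
    obtain ⟨m, hm⟩ := hR₂' g hg.2
    have hn1 : g ≫ a = (g ≫ toUnit U) ≫ P n :=
      congrArg (fun z : ULift.{u + 1} (Additive (V ⟶ L)) => z.down.toMul) hn
    have hm1 : g ≫ b = (g ≫ toUnit U) ≫ P m :=
      congrArg (fun z : ULift.{u + 1} (Additive (V ⟶ L)) => z.down.toMul) hm
    have h1 : (g ≫ toUnit U) ≫ P' (σ n) = (g ≫ toUnit U) ≫ P' (σ m) := by
      rw [hσ, hσ, ← Category.assoc, ← Category.assoc, ← hn1, ← hm1, Category.assoc, Category.assoc, hab]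
    rcases B'.uniq (g ≫ toUnit U) (σ n) (σ m) (ULift.ext _ _ (congrArg Additive.ofMul h1)) with h2 | h2
    · rw [hn1, hm1, hσi h2]
    · exact FppfExtLib.hom_ext_sieve h2 _ _ fun _ _ hk => hk.elim

variable [CharZero k]

/-- A morphism of 1-motives inducing bijections on all torsion realizations is an isomorphism. -/
theorem isIso_of_tzMap_bijective (M N : OneMot.Motive (Spec (CommRingCat.of k))) (f : OneMot.Motive.Hom M N)
    (h : ∀ m : ℕ, 1 ≤ m → Function.Bijective (OneMot.tzMap m pt₀ f)) : f.IsIso := by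
  obtain ⟨B⟩ := exists_basis M.lattice
  obtain ⟨B'⟩ := exists_basis N.lattice
  let Φ : (Fin B.r → ℤ) →+ Additive (pt₀ ⟶ M.L) := ((CGrpSh.sectEquiv _ M.L pt₀).toAddMonoidHom).comp B.Φ
  let Φ' : (Fin B'.r → ℤ) →+ Additive (pt₀ ⟶ N.L) := ((CGrpSh.sectEquiv _ N.L pt₀).toAddMonoidHom).comp B'.Φ
  have hΦs : ∀ x, ∃ n, Φ n = x := fun x => by
    obtain ⟨n, hn⟩ := exists_eq_Φ B x.toMul
    exact ⟨n, congrArg (fun z : ULift.{u + 1} (Additive (pt₀ ⟶ M.L)) => z.down) hn⟩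
  have hΦs' : ∀ x, ∃ n, Φ' n = x := fun x => by
    obtain ⟨n, hn⟩ := exists_eq_Φ B' x.toMul
    exact ⟨n, congrArg (fun z : ULift.{u + 1} (Additive (pt₀ ⟶ N.L)) => z.down) hn⟩
  have hΦi : Function.Injective Φ := (CGrpSh.sectEquiv _ M.L pt₀).injective.comp (Φ_injective B)
  have hΦi' : Function.Injective Φ' := (CGrpSh.sectEquiv _ N.L pt₀).injective.comp (Φ_injective B')
  let F : Additive (pt₀ ⟶ M.L) →+ Additive (pt₀ ⟶ N.L) := AddMonoidHom.mk' (fun x => Additive.ofMul (x.toMul ≫ f.fL))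
    fun x y => congrArg Additive.ofMul (MonObj.mul_comp x.toMul y.toMul f.fL)
  let Fg : Additive (pt₀ ⟶ M.G) →+ Additive (pt₀ ⟶ N.G) := AddMonoidHom.mk' (fun x => Additive.ofMul (x.toMul ≫ f.fG))
    fun x y => congrArg Additive.ofMul (MonObj.mul_comp x.toMul y.toMul f.fG)
  let U : Additive (pt₀ ⟶ M.L) →+ Additive (pt₀ ⟶ M.G) := AddMonoidHom.mk' (fun x => Additive.ofMul (x.toMul ≫ M.u))
    fun x y => congrArg Additive.ofMul (MonObj.mul_comp x.toMul y.toMul M.u)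
  let U' : Additive (pt₀ ⟶ N.L) →+ Additive (pt₀ ⟶ N.G) := AddMonoidHom.mk' (fun x => Additive.ofMul (x.toMul ≫ N.u))
    fun x y => congrArg Additive.ofMul (MonObj.mul_comp x.toMul y.toMul N.u)
  have hUF : ∀ x, U' (F x) = Fg (U x) := fun x => congrArg Additive.ofMul (by
    show (x.toMul ≫ f.fL) ≫ N.u = (x.toMul ≫ M.u) ≫ f.fG
    rw [Category.assoc, Category.assoc, f.comm])
  have htf : ∀ (m : ℕ), 1 ≤ m → ∀ z : Additive (pt₀ ⟶ N.L), m • z = 0 → z = 0 := fun m hm z hz => by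
    obtain ⟨v, rfl⟩ := hΦs' z
    rw [← map_nsmul, ← map_zero Φ'] at hz
    rw [(nsmul_eq_zero_iff_right (Nat.one_le_iff_ne_zero.1 hm)).1 (hΦi' hz), map_zero]
  have hsurj : ∀ (m : ℕ), 1 ≤ m → ∀ (y : Additive (pt₀ ⟶ N.L)) (g : Additive (pt₀ ⟶ N.G)), U' y = -(m • g) →
      ∃ x a z, U x = -(m • a) ∧ m • z = -F x + y ∧ -U' z = -Fg a + g := fun m hm y g hyg => by
    obtain ⟨c, hc⟩ := (h m hm).2 (QuotientAddGroup.mk (⟨(y, g), hyg⟩ : OneMot.tzPairs N m pt₀))
    obtain ⟨⟨⟨x, a⟩, hp⟩, rfl⟩ := QuotientAddGroup.mk_surjective c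
    obtain ⟨z, hz⟩ := QuotientAddGroup.eq.1 hc
    exact ⟨x, a, z, hp, congrArg Prod.fst hz, congrArg Prod.snd hz⟩
  have hinj : ∀ (m : ℕ), 1 ≤ m → ∀ (x : Additive (pt₀ ⟶ M.L)) (a : Additive (pt₀ ⟶ M.G)), U x = -(m • a) →
      F x = 0 → Fg a = 0 → ∃ z, m • z = x ∧ -U z = a := fun m hm x a hxa h1 h2 => by
    have e : OneMot.tzMap m pt₀ f (QuotientAddGroup.mk (⟨(x, a), hxa⟩ : OneMot.tzPairs M m pt₀)) = 0 := by
      refine (QuotientAddGroup.eq_zero_iff _).2 ⟨0, ?_⟩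
      show ((m • (0 : Additive (pt₀ ⟶ N.L)), -U' 0) : _ × _) = (F x, Fg a)
      rw [h1, h2, smul_zero, map_zero, neg_zero]
    obtain ⟨z, hz⟩ := (QuotientAddGroup.eq_zero_iff _).1 ((h m hm).1 (e.trans (map_zero _).symm))
    exact ⟨z, congrArg Prod.fst hz, congrArg Prod.snd hz⟩
  -- torsion points of `M.G`
  have hGinj : ∀ n : ℕ, 0 < n → ∀ x : pt₀ ⟶ M.G, x ^ n = 1 → x ≫ f.fG = 1 → x = 1 := fun n hn x hx hx' => by
    obtain ⟨z, hz1, hz2⟩ := hinj n hn 0 (Additive.ofMul x) (by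
      rw [map_zero, ← ofMul_pow, hx]; exact neg_zero.symm) (map_zero _) (congrArg Additive.ofMul hx')
    obtain ⟨v, rfl⟩ := hΦs z
    rw [← map_nsmul, ← map_zero Φ] at hz1
    rw [(nsmul_eq_zero_iff_right hn.ne').1 (hΦi hz1), map_zero, map_zero, neg_zero] at hz2
    exact Additive.ofMul.injective hz2.symm
  -- surjectivity on the lattices
  have hLsur : ∀ y, ∃ x, F x = y := by
    let g := (F.comp Φ).toIntLinearMap
    have hg : ∀ v, Φ' v ∈ F.range := by
      intro v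
      by_contra hv
      let R : AddSubgroup (Fin B'.r → ℤ) := F.range.comap Φ'
      let R' : Submodule ℤ (Fin B'.r → ℤ) := R.toIntSubmodule
      haveI : Nontrivial ((Fin B'.r → ℤ) ⧸ R') := Submodule.Quotient.nontrivial_iff.2 fun e =>
        hv (show v ∈ R' from e ▸ Submodule.mem_top)
      obtain ⟨N₁, hN₁, hfin⟩ := exists_finite_quotient ((Fin B'.r → ℤ) ⧸ R')
      haveI := hfin
      refine hN₁ (eq_top_iff.2 fun q _ => ?_)
      obtain ⟨w, rfl⟩ := Submodule.Quotient.mk_surjective R' q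
      let m := Nat.card (((Fin B'.r → ℤ) ⧸ R') ⧸ N₁)
      have hm : 1 ≤ m := Nat.card_pos
      obtain ⟨a₀, ha₀⟩ := exists_pow_eq N.semiAb hm ((Φ' w).toMul ≫ N.u)⁻¹
      obtain ⟨x, a, z, -, hz, -⟩ := hsurj m hm (Φ' w) (Additive.ofMul a₀) (by
        rw [← ofMul_pow, ha₀, ofMul_inv, neg_neg]; rfl)
      obtain ⟨zv, rfl⟩ := hΦs' z
      have hmem : w - m • zv ∈ R' := ⟨x, by rw [map_sub, map_nsmul, hz]; abel⟩
      have h2 : (Submodule.Quotient.mk w : (Fin B'.r → ℤ) ⧸ R') = m • Submodule.Quotient.mk zv :=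
        (Submodule.Quotient.eq R').2 hmem
      rw [h2]
      exact (Submodule.Quotient.mk_eq_zero _).1 ((Submodule.Quotient.mk_smul N₁ m _).trans card_nsmul_eq_zero')
    intro y
    obtain ⟨v, rfl⟩ := hΦs' y
    exact hg v
  -- torsion points of `N.G`
  have hrefine : ∀ n : ℕ, 0 < n → ∀ g : Additive (pt₀ ⟶ N.G), n • g = 0 →
      ∃ x a, U x = -(n • a) ∧ F x = 0 ∧ Fg a = g := fun n hn g hg => by
    obtain ⟨x, a, z, hxa, hz, hz'⟩ := hsurj n hn 0 g (by rw [map_zero, hg, neg_zero])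
    obtain ⟨z₀, rfl⟩ := hLsur z
    refine ⟨x + n • z₀, a - U z₀, ?_, ?_, ?_⟩
    · rw [map_add, map_nsmul, hxa, smul_sub]; abel
    · rw [map_add, map_nsmul, hz]; abel
    · rw [map_sub, ← hUF, sub_eq_add_neg, hz']; abel
  haveI : IsIso f.fG := by
    -- first the kernel on all points, from torsion points
    refine isIso_of_torsion M.semiAb N.semiAb f.fG hGinj fun n hn y hy => ?_
    obtain ⟨x, a, -, -, ha⟩ := hrefine n hn (Additive.ofMul y) (by rw [← ofMul_pow, hy]; rfl)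
    exact ⟨a.toMul, congrArg Additive.toMul ha⟩
  have hGall : ∀ a, Fg a = 0 → a = 0 := fun a ha => Additive.toMul.injective
    ((cancel_mono f.fG).1 ((congrArg Additive.toMul ha).trans (MonObj.one_comp f.fG).symm))
  haveI : IsIso f.fL := by
    refine isIso_lattice M.lattice N.lattice f.fL (fun x x' hx => ?_) fun y => ?_
    · have h0 : F (Additive.ofMul x - Additive.ofMul x') = 0 := by
        rw [map_sub, sub_eq_zero]; exact congrArg Additive.ofMul hx
      obtain ⟨v, hv⟩ := hΦs (Additive.ofMul x - Additive.ofMul x')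
      have hv0 : v = 0 := eq_zero_of_forall_dvd v fun m hm => by
        obtain ⟨z, hz, -⟩ := hinj m hm (Φ v) 0 (by
          rw [smul_zero, neg_zero]
          exact hGall _ (by rw [← hUF, hv, h0, map_zero])) (hv ▸ h0) (map_zero _)
        obtain ⟨w, rfl⟩ := hΦs z
        exact ⟨w, hΦi (by rw [map_nsmul, hz])⟩
      rw [hv0, map_zero] at hv
      exact Additive.ofMul.injective (sub_eq_zero.1 hv.symm)
    · obtain ⟨x, hx⟩ := hLsur (Additive.ofMul y)
      exact ⟨x.toMul, congrArg Additive.toMul hx⟩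
  exact ⟨inferInstance, inferInstance⟩

end Groth.Agent.OneMotFaithLib
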