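import Groth.Agent.OneMotFaithLib.Main
import Groth.Agent.FppfExtLib.Etale
import Groth.Agent.SemiAbLib.Basic
import Groth.Agent.FpqcDesc.Basic
import Mathlib.AlgebraicGeometry.Morphisms.LocalFlatDescent

/-!
# The scheme underlying an extension of an abelian variety by a torus
-/

set_option autoImplicit false
set_option backward.isDefEq.respectTransparency false
set_option backward.isDefEq.respectTransparency.types false
set_option linter.style.haveILetI false

universe u

open CategoryTheory CategoryTheory.Limits MonoidalCategory CartesianMonoidalCategory MonObj AlgebraicGeometry Opposite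

noncomputable section

namespace Groth.Agent.OneMotFaithLib

variable {k : Type u} [Field k] {T G A : Over (Spec (CommRingCat.of k))} [GrpObj T] [IsCommMonObj T] [GrpObj G] [IsCommMonObj G]
  [GrpObj A] [IsCommMonObj A] {i : T ⟶ G} {p : G ⟶ A} [IsMonHom i] [IsMonHom p] (w : i ≫ p = 1)
  (hex : (CGrpSh.seq Scheme.fppfPrecoverage i p w).ShortExact)

include hex in
theorem isKernel : AlgGrp.IsKernel i p := by
  show IsPullback i (toUnit T) p η[A]
  refine ⟨⟨by rw [w]; exact Hom.one_def⟩, ⟨PullbackCone.isLimitAux' _ fun s => ?_⟩⟩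
  have hs : s.fst ≫ p = 1 := by
    rw [s.condition, toUnit_unique s.snd (toUnit _), Hom.one_def]
  choose t ht using fun _ : Unit => exists_fac w hex s.fst hs
  exact ⟨t (), ht (), toUnit_unique _ _, fun {m} h₁ _ => incl_injective w hex (h₁.trans (ht ()).symm)⟩

include hex in
theorem isPullback_of_lift {U : Over (Spec (CommRingCat.of k))} (e : U ⟶ G) :
    IsPullback ((fst U T ≫ e) * (snd U T ≫ i)) (fst U T) p (e ≫ p) := by
  have hsq : ((fst U T ≫ e) * (snd U T ≫ i)) ≫ p = fst U T ≫ e ≫ p := by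
    rw [MonObj.mul_comp, Category.assoc, Category.assoc, w, MonObj.comp_one, _root_.mul_one]
  refine ⟨⟨hsq⟩, ⟨PullbackCone.isLimitAux' _ fun s => ?_⟩⟩
  have hs : s.fst ≫ p = s.snd ≫ e ≫ p := s.condition
  have hk : ((s.snd ≫ e)⁻¹ * s.fst) ≫ p = 1 := by
    rw [MonObj.mul_comp, GrpObj.inv_comp, Category.assoc, hs, inv_mul_cancel]
  choose c hc using fun _ : Unit => exists_fac w hex _ hk
  refine ⟨lift s.snd (c ()), ?_, lift_fst _ _, fun {m} h₁ h₂ => ?_⟩
  · show lift s.snd (c ()) ≫ ((fst U T ≫ e) * (snd U T ≫ i)) = s.fst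
    rw [MonObj.comp_mul, lift_fst_assoc, lift_snd_assoc, hc, mul_inv_cancel_left]
  · change m ≫ ((fst U T ≫ e) * (snd U T ≫ i)) = s.fst at h₁
    change m ≫ fst U T = s.snd at h₂
    rw [MonObj.comp_mul, reassoc_of% h₂] at h₁
    refine CartesianMonoidalCategory.hom_ext _ _ (by rw [lift_fst, h₂]) ?_
    rw [lift_snd]
    refine incl_injective w hex ?_
    rw [hc, ← h₁, inv_mul_cancel_left, Category.assoc]

include hex in
/-- An fppf cover of the base along which the universal point lifts. -/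
theorem exists_cover : ∃ (J : Type (u + 1)) (X : J → Scheme.{u}) (f : ∀ j, X j ⟶ A.left),
    (∀ a : A.left, ∃ j, a ∈ Set.range (f j)) ∧ (∀ j, Flat (f j) ∧ LocallyOfFinitePresentation (f j)) ∧
      ∀ j, ∃ e : Over.mk (f j ≫ A.hom) ⟶ G, e ≫ p = Over.homMk (f j) rfl := by
  haveI := hex.epi_g
  haveI : Sheaf.IsLocallySurjective (CGrpSh.seq Scheme.fppfPrecoverage i p w).g :=
    (Sheaf.isLocallySurjective_iff_epi' AddCommGrpCat.{u + 1} (CGrpSh.seq Scheme.fppfPrecoverage i p w).g).2 inferInstance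
  let u₀ : (CGrpSh.pts Scheme.fppfPrecoverage A).obj.obj (op A) := ULift.up (Additive.ofMul (𝟙 A))
  have hR := Presheaf.imageSieve_mem (QuotSh.J Scheme.fppfPrecoverage (Spec (CommRingCat.of k)))
    (CGrpSh.seq Scheme.fppfPrecoverage i p w).g.hom (U := op A) u₀
  have hR' := (GrothendieckTopology.mem_over_iff _ _).1 hR
  obtain ⟨R₀, hR₀, hle⟩ := Precoverage.mem_toGrothendieck_iff_of_isStableUnderComposition.1 hR'
  obtain ⟨J, X, f, rfl⟩ := Presieve.exists_eq_ofArrows R₀
  rw [show Scheme.fppfPrecoverage = Scheme.precoverage (@Flat ⊓ @LocallyOfFinitePresentation) from rfl,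
    Scheme.ofArrows_mem_precoverage_iff] at hR₀
  refine ⟨J, X, f, hR₀.1, fun j => hR₀.2 j, fun j => ?_⟩
  obtain ⟨x, hx⟩ := (Sieve.overEquiv_iff _ _).1 (hle _ _ ⟨j⟩)
  exact ⟨x.down.toMul, (congrArg (fun z : ULift.{u + 1} (Additive (Over.mk (f j ≫ A.hom) ⟶ A)) => z.down.toMul) hx).trans
    (show (Over.homMk (f j) rfl : Over.mk (f j ≫ A.hom) ⟶ A) ≫ 𝟙 A = _ from Category.comp_id _)⟩

include hex in
theorem surjective_proj : Surjective p.left := by
  obtain ⟨J, X, f, hcov, -, hlift⟩ := exists_cover w hex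
  refine ⟨fun a => ?_⟩
  obtain ⟨j, x, rfl⟩ := hcov a
  obtain ⟨e, he⟩ := hlift j
  refine ⟨e.left x, ?_⟩
  rw [← Scheme.Hom.comp_apply, ← Over.comp_left, he]
  rfl

include hex in
/-- Properties of the torus pass to the projection. -/
theorem prop_proj [IsSeparated A.hom] (P : MorphismProperty Scheme.{u}) [IsZariskiLocalAtTarget P]
    [P.IsStableUnderBaseChange] [P.DescendsAlong (@Surjective ⊓ @Flat ⊓ @QuasiCompact)] (hT : P T.hom) :
    P p.left := by
  obtain ⟨J, X, f, hcov, hf, hlift⟩ := exists_cover w hex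
  refine IsZariskiLocalAtTarget.of_forall_exists_morphismRestrict (P := P) fun a => ?_
  obtain ⟨j, x, hx⟩ := hcov a
  haveI : Flat (f j) := (hf j).1
  haveI : LocallyOfFinitePresentation (f j) := (hf j).2
  obtain ⟨W, hW, hxW, -⟩ := exists_isAffineOpen_mem_and_subset (x := x) (U := ⊤) trivial
  let h : W.toScheme ⟶ A.left := W.ι ≫ f j
  haveI : UniversallyOpen h := by
    haveI : Flat h := inferInstanceAs (Flat (W.ι ≫ f j))
    haveI : LocallyOfFinitePresentation h := inferInstanceAs (LocallyOfFinitePresentation (W.ι ≫ f j))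
    exact inferInstance
  haveI : CompactSpace W.toScheme := isCompact_iff_compactSpace.mp hW.isCompact
  haveI : QuasiCompact (h ≫ A.hom) := (quasiCompact_iff_compactSpace (h ≫ A.hom)).2 inferInstance
  haveI : QuasiCompact h := QuasiCompact.of_comp h A.hom
  obtain ⟨V, hV, haV, hVr⟩ := exists_isAffineOpen_mem_and_subset (x := a)
    (U := ⟨Set.range h, h.isOpenMap.isOpen_range⟩) ⟨⟨x, hxW⟩, hx⟩
  refine ⟨V, haV, ?_⟩
  haveI : QuasiCompact (h ∣_ V) := IsZariskiLocalAtTarget.restrict (P := @QuasiCompact) inferInstance V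
  haveI : Flat (h ∣_ V) := IsZariskiLocalAtTarget.restrict (P := @Flat) (inferInstanceAs (Flat (W.ι ≫ f j))) V
  have hsurj : Surjective (h ∣_ V) := ⟨fun y => by
    obtain ⟨z, hz⟩ := hVr y.2
    let z' : (h ⁻¹ᵁ V).toScheme := ⟨z, show h z ∈ V from hz ▸ y.2⟩
    refine ⟨z', Subtype.ext ?_⟩
    have e : V.ι ((h ∣_ V) z') = h ((h ⁻¹ᵁ V).ι z') := by
      rw [← Scheme.Hom.comp_apply, morphismRestrict_ι, Scheme.Hom.comp_apply]
    exact e.trans hz⟩
  obtain ⟨e₀, he₀⟩ := hlift j
  let U : Over (Spec (CommRingCat.of k)) := Over.mk (((h ⁻¹ᵁ V).ι ≫ h) ≫ A.hom)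
  let e : U ⟶ G := (Over.homMk ((h ⁻¹ᵁ V).ι ≫ W.ι) (by
    show ((h ⁻¹ᵁ V).ι ≫ W.ι) ≫ f j ≫ A.hom = ((h ⁻¹ᵁ V).ι ≫ h) ≫ A.hom
    simp only [Category.assoc, h]) : U ⟶ Over.mk (f j ≫ A.hom)) ≫ e₀
  have he : (e ≫ p).left = (h ∣_ V) ≫ V.ι := by
    rw [morphismRestrict_ι, Category.assoc, he₀]
    exact Category.assoc _ _ _
  have h1 : IsPullback ((fst U T ≫ e) * (snd U T ≫ i)).left (fst U T).left p.left (e ≫ p).left :=
    (isPullback_of_lift w hex e).map (Over.forget _)
  have h2 : IsPullback (pullback.fst (p.left ∣_ V) (h ∣_ V) ≫ (p.left ⁻¹ᵁ V).ι)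
      (pullback.snd (p.left ∣_ V) (h ∣_ V)) p.left ((h ∣_ V) ≫ V.ι) :=
    (IsPullback.of_hasPullback (p.left ∣_ V) (h ∣_ V)).paste_horiz (isPullback_morphismRestrict p.left V).flip
  rw [← he] at h2
  have hfst : P (fst U T).left := MorphismProperty.pullback_fst (P := P) U.hom T.hom hT
  have hsnd : P (pullback.snd (p.left ∣_ V) (h ∣_ V)) := by
    rw [← h2.isoIsPullback_hom_snd _ _ h1]
    exact (MorphismProperty.cancel_left_of_respectsIso P _ _).2 hfst
  exact MorphismProperty.of_isPullback_of_descendsAlong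
    (Q := (@Surjective ⊓ @Flat ⊓ @QuasiCompact : MorphismProperty Scheme.{u}))
    (IsPullback.of_hasPullback (p.left ∣_ V) (h ∣_ V)).flip ⟨⟨hsurj, inferInstance⟩, inferInstance⟩ hsnd

omit w hex in
theorem props [IsAlgClosed k] (hG : OneMot.IsSemiAbWith T G A i p) :
    Smooth p.left ∧ QuasiCompact p.left ∧ Smooth G.hom ∧ QuasiCompact G.hom ∧ IsReduced G.left ∧ ConnectedSpace G.left := by
  obtain ⟨hT, hA, w, hex⟩ := hG
  haveI := hA.smooth
  haveI := hA.proper
  obtain ⟨hTs, hTqc, -, -⟩ := GenSubLib.torus_props hT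
  haveI : IsSeparated A.hom := GrpSchLib.isSeparated_hom
  haveI hs : Smooth p.left := prop_proj w hex @Smooth hTs
  haveI := FpqcDesc.quasiCompact_descends.{u}
  haveI hq : QuasiCompact p.left := prop_proj w hex @QuasiCompact hTqc
  haveI hGs : Smooth G.hom := by rw [← Over.w p]; infer_instance
  haveI hGq : QuasiCompact G.hom := by rw [← Over.w p]; infer_instance
  refine ⟨hs, hq, hGs, hGq, ASp.isReduced_of_smooth G.hom, ?_⟩
  haveI := surjective_proj w hex
  haveI : GeometricallyConnected A.hom :=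
    MonoFibre.geometricallyConnected_of_connected_fibres A.hom η[A].left (Over.w η[A]) hA.connectedFibres
  haveI : GeometricallyReduced A.hom := AVLib.geometricallyReduced_of_smooth A.hom
  haveI : Subsingleton ↥(Spec (CommRingCat.of k)) := inferInstanceAs (Subsingleton (PrimeSpectrum k))
  haveI : ConnectedSpace A.left := GeometricallyConnected.connectedSpace_of_subsingleton A.hom
  haveI : IsClosedImmersion i.left := by
    have h1 := ((isKernel w hex).map (Over.forget _))
    haveI : IsClosedImmersion ((Over.forget _).map η[A]) := GrpSchLib.isClosedImmersion_unit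
    exact MorphismProperty.of_isPullback (P := @IsClosedImmersion) h1.flip inferInstance
  haveI := (SemiAbLib.geometric_of_ext i p (isKernel w hex) hT).1
  exact GeometricallyConnected.connectedSpace_of_subsingleton G.hom

end Groth.Agent.OneMotFaithLib
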