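import Groth.Agent.OneMotFaithLib.Points
import Groth.Agent.BiextExtLib.LatticeBasis
import Groth.Agent.BiextExtLib.Triv
import Groth.Agent.TorusAbTrivLib.Basic
import Groth.Prelude.Def_OneMot

/-!
# Torsion realizations are faithful
-/

set_option autoImplicit false
set_option backward.isDefEq.respectTransparency false
set_option backward.isDefEq.respectTransparency.types false
set_option linter.style.haveILetI false

universe u

open CategoryTheory CategoryTheory.Limits MonoidalCategory CartesianMonoidalCategory MonObj AlgebraicGeometry Opposite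

noncomputable section

namespace Groth.Agent.OneMotFaithLib

variable {k : Type u} [Field k]

local notation "P" => Scheme.fppfPrecoverage
local notation "pt₀" => 𝟙_ (Over (Spec (CommRingCat.of k)))

/-- Differences of homomorphisms of commutative group schemes are homomorphisms. -/
theorem isMonHom_div {G H : Over (Spec (CommRingCat.of k))} [GrpObj G] [GrpObj H] [IsCommMonObj H] (a b : G ⟶ H)
    [IsMonHom a] [IsMonHom b] : IsMonHom (a / b) := by
  letI : CommGroup (G ⊗ G ⟶ H) := Hom.commGroup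
  refine { one_hom := ?_, mul_hom := ?_ }
  · rw [div_eq_mul_inv, MonObj.comp_mul, GrpObj.comp_inv, IsMonHom.one_hom, IsMonHom.one_hom, mul_inv_cancel]
    exact (show η[H] = 1 by simp [Hom.one_def]).symm
  · have e : μ[G] = fst G G * snd G G := by rw [Hom.mul_def, lift_fst_snd, Category.id_comp]
    have e' : ∀ c : G ⟶ H, (c ⊗ₘ c) ≫ μ[H] = (fst G G ≫ c) * (snd G G ≫ c) := fun c => by
      rw [Hom.mul_def, ← tensorHom_fst, ← tensorHom_snd, lift_comp_fst_snd]
    rw [e', div_eq_mul_inv, MonObj.comp_mul, GrpObj.comp_inv, IsMonHom.mul_hom (f := a),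
      IsMonHom.mul_hom (f := b), e', e', MonObj.comp_mul, MonObj.comp_mul, GrpObj.comp_inv, GrpObj.comp_inv,
      mul_inv, _root_.mul_mul_mul_comm]

variable [IsAlgClosed k]

/-- Sections of the terminal object: the rational points of a lattice. -/
theorem exists_basis {L : Over (Spec (CommRingCat.of k))} [GrpObj L] [IsCommMonObj L] (hL : OneMot.IsLattice L) :
    Nonempty (BiextExtLib.LocBasis (CGrpSh.pts P L) pt₀) := by
  obtain ⟨R, hR, hR'⟩ := BiextExtLib.exists_locBasis L hL pt₀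
  exact hR' (𝟙 _) (id_mem hR)

theorem exists_eq_Φ {L : Over (Spec (CommRingCat.of k))} [GrpObj L] [IsCommMonObj L]
    (B : BiextExtLib.LocBasis (CGrpSh.pts P L) pt₀) (x : pt₀ ⟶ L) :
    ∃ n, B.Φ n = ULift.up (Additive.ofMul x) := by
  obtain ⟨R, hR, hR'⟩ := B.gen (𝟙 _) (ULift.up (Additive.ofMul x))
  obtain ⟨n, hn⟩ := hR' (𝟙 _) (id_mem hR)
  refine ⟨n, ?_⟩
  rw [Category.id_comp, BiextExtLib.map_id_ab, BiextExtLib.map_id_ab] at hn
  exact hn.symm

theorem Φ_injective {L : Over (Spec (CommRingCat.of k))} [GrpObj L] [IsCommMonObj L]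
    (B : BiextExtLib.LocBasis (CGrpSh.pts P L) pt₀) : Function.Injective B.Φ := fun n n' h => by
  rcases B.uniq (𝟙 _) n n' (by rw [h]) with h' | h'
  · exact h'
  · exact absurd (id_mem h') not_false

/-- Homomorphisms out of a lattice are determined by the rational points. -/
theorem lattice_hom_ext {L H : Over (Spec (CommRingCat.of k))} [GrpObj L] [IsCommMonObj L] [GrpObj H] [IsCommMonObj H]
    (hL : OneMot.IsLattice L) {a b : L ⟶ H} (h : ∀ x : pt₀ ⟶ L, x ≫ a = x ≫ b) : a = b := by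
  obtain ⟨B⟩ := exists_basis hL
  obtain ⟨R, hR, hR'⟩ := B.gen (toUnit L) (ULift.up (Additive.ofMul (𝟙 L)))
  have key : ULift.up (Additive.ofMul a) = (ULift.up (Additive.ofMul b) : (CGrpSh.pts P H).obj.obj (op L)) := by
    refine BiextExtLib.sep_ab (CGrpSh.pts P H) hR fun V g hg => ?_
    obtain ⟨n, hn⟩ := hR' g hg
    have hn' : g = (g ≫ toUnit L) ≫ (B.Φ n).down.toMul :=
      (Category.comp_id g).symm.trans (congrArg (fun z : ULift.{u + 1} (Additive (V ⟶ L)) => z.down.toMul) hn)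
    refine ULift.ext _ _ (congrArg Additive.ofMul (show g ≫ a = g ≫ b from ?_))
    rw [hn', Category.assoc, Category.assoc _ _ b, h]
  exact congrArg (fun z : ULift.{u + 1} (Additive (L ⟶ H)) => z.down.toMul) key

/-- Rational points lift along the projection of an extension. -/
theorem exists_lift {T G A : Over (Spec (CommRingCat.of k))} [GrpObj T] [IsCommMonObj T] [GrpObj G] [IsCommMonObj G]
    [GrpObj A] [IsCommMonObj A] {i : T ⟶ G} {p : G ⟶ A} [IsMonHom i] [IsMonHom p] (w : i ≫ p = 1)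
    (hex : (CGrpSh.seq P i p w).ShortExact) (y : pt₀ ⟶ A) : ∃ x : pt₀ ⟶ G, x ≫ p = y := by
  haveI := hex.epi_g
  haveI : Sheaf.IsLocallySurjective (CGrpSh.seq P i p w).g :=
    (Sheaf.isLocallySurjective_iff_epi' AddCommGrpCat.{u + 1} (CGrpSh.seq P i p w).g).2 inferInstance
  obtain ⟨x, hx⟩ := id_mem (Presheaf.imageSieve_mem (QuotSh.J P (Spec (CommRingCat.of k))) (CGrpSh.seq P i p w).g.hom
    (U := op pt₀) (ULift.up (Additive.ofMul y)))
  refine ⟨x.down.toMul, ?_⟩
  have := congrArg (fun z : ULift.{u + 1} (Additive (pt₀ ⟶ A)) => z.down.toMul) hx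
  refine this.trans ?_
  show 𝟙 pt₀ ≫ y = y
  exact Category.id_comp y

omit [IsAlgClosed k] in
/-- Points killed by the projection come from the subgroup. -/
theorem exists_fac {T G A : Over (Spec (CommRingCat.of k))} [GrpObj T] [IsCommMonObj T] [GrpObj G] [IsCommMonObj G]
    [GrpObj A] [IsCommMonObj A] {i : T ⟶ G} {p : G ⟶ A} [IsMonHom i] [IsMonHom p] (w : i ≫ p = 1)
    (hex : (CGrpSh.seq P i p w).ShortExact) {U : Over (Spec (CommRingCat.of k))} (g : U ⟶ G) (hg : g ≫ p = 1) :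
    ∃ t : U ⟶ T, t ≫ i = g := by
  obtain ⟨t, ht⟩ := BiextExtLib.sect_exact _ hex.exact hex.mono_f U (ULift.up (Additive.ofMul g))
    (ULift.ext _ _ (congrArg Additive.ofMul hg))
  exact ⟨t.down.toMul, congrArg (fun z : ULift.{u + 1} (Additive (U ⟶ G)) => z.down.toMul) ht⟩

omit [IsAlgClosed k] in
theorem incl_injective {T G A : Over (Spec (CommRingCat.of k))} [GrpObj T] [IsCommMonObj T] [GrpObj G] [IsCommMonObj G]
    [GrpObj A] [IsCommMonObj A] {i : T ⟶ G} {p : G ⟶ A} [IsMonHom i] [IsMonHom p] (w : i ≫ p = 1)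
    (hex : (CGrpSh.seq P i p w).ShortExact) {U : Over (Spec (CommRingCat.of k))} {t t' : U ⟶ T}
    (h : t ≫ i = t' ≫ i) : t = t' := by
  haveI := hex.mono_f
  have := BiextExtLib.sect_injective (CGrpSh.seq P i p w).f U
    (a₁ := ULift.up (Additive.ofMul t)) (a₂ := ULift.up (Additive.ofMul t'))
    (ULift.ext _ _ (congrArg Additive.ofMul h))
  exact congrArg (fun z : ULift.{u + 1} (Additive (U ⟶ T)) => z.down.toMul) this

omit [IsAlgClosed k] in
/-- Homomorphisms killing the subgroup descend to the quotient. -/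
theorem exists_desc {T G A H : Over (Spec (CommRingCat.of k))} [GrpObj T] [IsCommMonObj T] [GrpObj G] [IsCommMonObj G]
    [GrpObj A] [IsCommMonObj A] [GrpObj H] [IsCommMonObj H] {i : T ⟶ G} {p : G ⟶ A} [IsMonHom i] [IsMonHom p]
    (w : i ≫ p = 1) (hex : (CGrpSh.seq P i p w).ShortExact) (D : G ⟶ H) [IsMonHom D] (hD : i ≫ D = 1) :
    ∃ E : A ⟶ H, p ≫ E = D := by
  have h0 : (CGrpSh.seq P i p w).f ≫ CGrpSh.ptsMap P D = 0 := by
    show CGrpSh.ptsMap P i ≫ CGrpSh.ptsMap P D = 0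
    refine Sheaf.hom_ext (NatTrans.ext (funext fun U => AddCommGrpCat.ext fun x => ULift.ext _ _ ?_))
    show Additive.ofMul ((x.down.toMul ≫ i) ≫ D) = 0
    rw [Category.assoc, hD, MonObj.comp_one]
    rfl
  let ψ : CGrpSh.pts P A ⟶ CGrpSh.pts P H := hex.gIsCokernel.desc (CokernelCofork.ofπ _ h0)
  have hψ : CGrpSh.ptsMap P p ≫ ψ = CGrpSh.ptsMap P D := hex.gIsCokernel.fac _ WalkingParallelPair.one
  let u : (CGrpSh.pts P A).obj.obj (op A) := ULift.up (Additive.ofMul (𝟙 A))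
  let v : (CGrpSh.pts P G).obj.obj (op G) := ULift.up (Additive.ofMul (𝟙 G))
  refine ⟨(ψ.hom.app (op A) u).down.toMul, ?_⟩
  have e1 : ψ.hom.app (op G) ((CGrpSh.pts P A).obj.map p.op u) = (CGrpSh.pts P H).obj.map p.op (ψ.hom.app (op A) u) :=
    ConcreteCategory.congr_hom (ψ.hom.naturality p.op) u
  have e2 : ψ.hom.app (op G) ((CGrpSh.ptsMap P p).hom.app (op G) v) = (CGrpSh.ptsMap P D).hom.app (op G) v :=
    ConcreteCategory.congr_hom (NatTrans.congr_app (congrArg (fun t : CGrpSh.pts P G ⟶ CGrpSh.pts P H => t.hom) hψ)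
      (op G)) v
  have e3 : (CGrpSh.pts P A).obj.map p.op u = (CGrpSh.ptsMap P p).hom.app (op G) v :=
    ULift.ext _ _ (congrArg Additive.ofMul (show p ≫ 𝟙 A = 𝟙 G ≫ p by simp))
  exact (congrArg (fun z : ULift.{u + 1} (Additive (G ⟶ H)) => z.down.toMul)
    (e1.symm.trans ((congrArg _ e3).trans e2))).trans (Category.id_comp D)

variable [CharZero k]

/-- A homomorphism of semi-abelian group schemes killing the torsion points is trivial. -/
theorem hom_eq_one_of_torsion {T G A T' G' A' : Over (Spec (CommRingCat.of k))}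
    [GrpObj T] [IsCommMonObj T] [GrpObj G] [IsCommMonObj G] [GrpObj A] [IsCommMonObj A]
    [GrpObj T'] [IsCommMonObj T'] [GrpObj G'] [IsCommMonObj G'] [GrpObj A'] [IsCommMonObj A']
    {i : T ⟶ G} {p : G ⟶ A} [IsMonHom i] [IsMonHom p] (hG : OneMot.IsSemiAbWith T G A i p)
    {i' : T' ⟶ G'} {p' : G' ⟶ A'} [IsMonHom i'] [IsMonHom p'] (hG' : OneMot.IsSemiAbWith T' G' A' i' p')
    (D : G ⟶ G') [IsMonHom D] (h : ∀ n : ℕ, 0 < n → ∀ x : pt₀ ⟶ G, x ^ n = 1 → x ≫ D = 1) : D = 1 := by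
  obtain ⟨hT, hA, w, hex⟩ := hG
  obtain ⟨hT', hA', w', hex'⟩ := hG'
  haveI := hA.smooth
  haveI := hA.proper
  haveI := hA'.smooth
  haveI := hA'.proper
  -- on the torus
  have hiD : i ≫ D = 1 := by
    haveI : IsMonHom (i ≫ D ≫ p') := inferInstance
    have h1 : (i ≫ D) ≫ p' = 1 := by
      rw [Category.assoc]
      exact TorusAbTrivLib.hom_eq_one hT hA'.connectedFibres (i ≫ D ≫ p')
    obtain ⟨u, hu⟩ := exists_fac w' hex' (i ≫ D) h1
    haveI : IsMonHom u :=
      { one_hom := incl_injective w' hex' (by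
          rw [Category.assoc, hu]
          exact (IsMonHom.one_hom (f := i ≫ D)).trans (IsMonHom.one_hom (f := i')).symm)
        mul_hom := incl_injective w' hex' (by
          rw [Category.assoc, hu, Category.assoc, IsMonHom.mul_hom (f := i'), tensorHom_comp_tensorHom_assoc, hu]
          exact IsMonHom.mul_hom (f := i ≫ D)) }
    have hu1 : u = 1 := torus_hom_eq_one hT hT' u fun n hn x hx => incl_injective w' hex' (by
      rw [Category.assoc, hu, ← Category.assoc, MonObj.one_comp]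
      exact h n hn (x ≫ i) (by rw [← MonObj.pow_comp, hx, MonObj.one_comp]))
    rw [← hu, hu1, MonObj.one_comp]
  obtain ⟨E, hE⟩ := exists_desc w hex D hiD
  -- on the abelian variety
  haveI : GeometricallyConnected A.hom :=
    MonoFibre.geometricallyConnected_of_connected_fibres A.hom η[A].left (Over.w η[A]) hA.connectedFibres
  haveI : GeometricallyIntegral A.hom := AVLib.geometricallyIntegral_of_smooth A
  haveI : IsReduced A.left := ASp.isReduced_of_smooth A.hom
  haveI : IsSeparated G'.hom := GrpSchLib.isSeparated_hom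
  haveI : Fact (Nat.Prime 2) := ⟨Nat.prime_two⟩
  have hl : ((2 : ℕ) : k) ≠ 0 := Nat.cast_ne_zero.2 two_ne_zero
  have hE1 : E = 1 := by
    refine hom_ext_dense {y | ∃ m : ℕ, y ^ 2 ^ m = 1} ?_ fun y hy => ?_
    · refine (WeilAVLib.dense_torsion A 2 hl).mono fun q hq => ?_
      simp only [Set.mem_iUnion] at hq ⊢
      obtain ⟨m, y, hy, hq⟩ := hq
      exact ⟨y, ⟨m, hy⟩, hq⟩
    · obtain ⟨m, hm⟩ := hy
      obtain ⟨x, hx⟩ := exists_lift w hex y
      obtain ⟨t, ht⟩ := exists_fac w hex (x ^ 2 ^ m) (by rw [MonObj.pow_comp, hx, hm])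
      obtain ⟨s, hs⟩ := GenSubLib.exists_pow_eq hT (n := 2 ^ m) (by positivity) t
      letI : CommGroup (pt₀ ⟶ G) := Hom.commGroup
      have hx' : (x / (s ≫ i)) ^ 2 ^ m = 1 := by
        rw [div_pow, ← MonObj.pow_comp, hs, ht, div_self']
      have h2 := h _ (by positivity) _ hx'
      rw [← hE, ← Category.assoc] at h2
      have h3 : (x / (s ≫ i)) ≫ p = y := by
        rw [div_eq_mul_inv, MonObj.mul_comp, GrpObj.inv_comp, Category.assoc, w, MonObj.comp_one, inv_one,
          _root_.mul_one, hx]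
      rw [h3] at h2
      rw [h2, MonObj.comp_one]
  rw [← hE, hE1, MonObj.comp_one]

end Groth.Agent.OneMotFaithLib

namespace Groth.Agent.OneMotFaithLib

variable {k : Type u} [Field k] [IsAlgClosed k] [CharZero k]

/-- An integer vector divisible by every positive integer vanishes. -/
theorem eq_zero_of_forall_dvd {r : ℕ} (v : Fin r → ℤ) (h : ∀ m : ℕ, 1 ≤ m → ∃ w : Fin r → ℤ, m • w = v) : v = 0 := by
  funext i
  obtain ⟨w, hw⟩ := h ((v i).natAbs + 1) (Nat.le_add_left 1 _)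
  have hw' := congrArg Int.natAbs (congrFun hw i)
  rw [Pi.smul_apply, nsmul_eq_mul, Int.natAbs_mul, Int.natAbs_natCast] at hw'
  rcases Nat.eq_zero_or_pos (w i).natAbs with h0 | h0
  · rw [h0, Nat.mul_zero] at hw'
    exact Int.natAbs_eq_zero.1 hw'.symm
  · have h1 := Nat.le_mul_of_pos_right ((v i).natAbs + 1) h0
    exact absurd hw' (by intro h2; omega)

omit [CharZero k] in
/-- Points of the semi-abelian group are divisible. -/
theorem exists_pow_eq {T G A : Over (Spec (CommRingCat.of k))}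
    [GrpObj T] [IsCommMonObj T] [GrpObj G] [IsCommMonObj G] [GrpObj A] [IsCommMonObj A]
    {i : T ⟶ G} {p : G ⟶ A} [IsMonHom i] [IsMonHom p] (hG : OneMot.IsSemiAbWith T G A i p) {m : ℕ} (hm : 1 ≤ m)
    (g : 𝟙_ (Over (Spec (CommRingCat.of k))) ⟶ G) : ∃ x, x ^ m = g := by
  obtain ⟨hT, hA, w, hex⟩ := hG
  haveI := hA.smooth
  haveI := hA.proper
  haveI : GeometricallyConnected A.hom :=
    MonoFibre.geometricallyConnected_of_connected_fibres A.hom η[A].left (Over.w η[A]) hA.connectedFibres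
  haveI : GeometricallyIntegral A.hom := AVLib.geometricallyIntegral_of_smooth A
  obtain ⟨a, ha⟩ := AVLib.exists_npow_eq m hm (g ≫ p)
  obtain ⟨x, hx⟩ := exists_lift w hex a
  letI : CommGroup (𝟙_ (Over (Spec (CommRingCat.of k))) ⟶ G) := Hom.commGroup
  obtain ⟨t, ht⟩ := exists_fac w hex (g / x ^ m) (by
    rw [div_eq_mul_inv, MonObj.mul_comp, GrpObj.inv_comp, MonObj.pow_comp, hx, ha, mul_inv_cancel])
  obtain ⟨s, hs⟩ := GenSubLib.exists_pow_eq hT hm t
  refine ⟨x * (s ≫ i), ?_⟩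
  rw [_root_.mul_pow, ← MonObj.pow_comp, hs, ht, mul_div_cancel]

omit [IsAlgClosed k] [CharZero k] in
/-- The torsion realization of a difference. -/
theorem exists_rel {M N : OneMot.Motive (Spec (CommRingCat.of k))} (f g : OneMot.Motive.Hom M N) (m : ℕ)
    (h : OneMot.tzMap m (𝟙_ (Over (Spec (CommRingCat.of k)))) f = OneMot.tzMap m (𝟙_ (Over (Spec (CommRingCat.of k)))) g)
    (p : OneMot.tzPairs M m (𝟙_ (Over (Spec (CommRingCat.of k))))) :
    ∃ x : Additive (𝟙_ (Over (Spec (CommRingCat.of k))) ⟶ N.L),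
      m • x = -Additive.ofMul ((Additive.toMul p.1.1) ≫ f.fL) + Additive.ofMul ((Additive.toMul p.1.1) ≫ g.fL) ∧
      -Additive.ofMul (x.toMul ≫ N.u) =
        -Additive.ofMul ((Additive.toMul p.1.2) ≫ f.fG) + Additive.ofMul ((Additive.toMul p.1.2) ≫ g.fG) := by
  have e := DFunLike.congr_fun h (QuotientAddGroup.mk p)
  obtain ⟨x, hx⟩ := (QuotientAddGroup.eq.1 e)
  exact ⟨x, congrArg Prod.fst hx, congrArg Prod.snd hx⟩

theorem eq_of_tzMap_eq (M N : OneMot.Motive (Spec (CommRingCat.of k))) (f g : OneMot.Motive.Hom M N)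
    (h : ∀ m : ℕ, 1 ≤ m → OneMot.tzMap m (𝟙_ (Over (Spec (CommRingCat.of k)))) f =
      OneMot.tzMap m (𝟙_ (Over (Spec (CommRingCat.of k)))) g) : f = g := by
  obtain ⟨B⟩ := exists_basis N.lattice
  let pt₀ := 𝟙_ (Over (Spec (CommRingCat.of k)))
  let Φ : (Fin B.r → ℤ) →+ Additive (pt₀ ⟶ N.L) := ((CGrpSh.sectEquiv _ N.L pt₀).toAddMonoidHom).comp B.Φ
  have hΦs : ∀ x, ∃ n, Φ n = x := fun x => by
    obtain ⟨n, hn⟩ := exists_eq_Φ B x.toMul
    exact ⟨n, congrArg (fun z : ULift.{u + 1} (Additive (pt₀ ⟶ N.L)) => z.down) hn⟩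
  have hΦi : Function.Injective Φ := (CGrpSh.sectEquiv _ N.L pt₀).injective.comp (Φ_injective B)
  have hG : f.fG = g.fG := by
    letI : CommGroup (M.G ⟶ N.G) := Hom.commGroup
    haveI := isMonHom_div f.fG g.fG
    refine div_eq_one.1 (hom_eq_one_of_torsion M.semiAb N.semiAb (f.fG / g.fG) fun n hn x hx => ?_)
    let p : OneMot.tzPairs M n pt₀ := ⟨(0, Additive.ofMul x), by
      show Additive.ofMul ((1 : pt₀ ⟶ M.L) ≫ M.u) = -(n • Additive.ofMul x)
      rw [MonObj.one_comp, ← ofMul_pow, hx]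
      exact neg_zero.symm⟩
    obtain ⟨z, hz1, hz2⟩ := exists_rel f g n (h n hn) p
    have hz : z = 0 := by
      obtain ⟨v, rfl⟩ := hΦs z
      have e : n • Φ v = 0 := by
        rw [hz1]
        show -Additive.ofMul ((1 : pt₀ ⟶ M.L) ≫ f.fL) + Additive.ofMul ((1 : pt₀ ⟶ M.L) ≫ g.fL) = 0
        rw [MonObj.one_comp, MonObj.one_comp]
        exact neg_add_cancel _
      rw [← map_nsmul, ← map_zero Φ] at e
      rw [(nsmul_eq_zero_iff_right hn.ne').1 (hΦi e), map_zero]
    rw [hz] at hz2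
    have h3 : Additive.ofMul (x ≫ f.fG) = Additive.ofMul (x ≫ g.fG) := by
      refine neg_add_eq_zero.1 (hz2.symm.trans ?_)
      show -Additive.ofMul ((1 : pt₀ ⟶ N.L) ≫ N.u) = 0
      rw [MonObj.one_comp]
      exact neg_zero
    rw [div_eq_mul_inv, MonObj.comp_mul, GrpObj.comp_inv, Additive.ofMul.injective h3, mul_inv_cancel]
  refine OneMot.Motive.Hom.ext' (lattice_hom_ext M.lattice fun x => ?_) hG
  obtain ⟨v, hv⟩ := hΦs (-Additive.ofMul (x ≫ f.fL) + Additive.ofMul (x ≫ g.fL))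
  have hv0 : v = 0 := eq_zero_of_forall_dvd v fun m hm => by
    obtain ⟨y, hy⟩ := exists_pow_eq M.semiAb hm (x ≫ M.u)⁻¹
    let p : OneMot.tzPairs M m pt₀ := ⟨(Additive.ofMul x, Additive.ofMul y), by
      show Additive.ofMul (x ≫ M.u) = -(m • Additive.ofMul y)
      rw [← ofMul_pow, hy, ofMul_inv, neg_neg]⟩
    obtain ⟨z, hz, -⟩ := exists_rel f g m (h m hm) p
    obtain ⟨w, rfl⟩ := hΦs z
    exact ⟨w, hΦi (by rw [map_nsmul, hz, hv]; rfl)⟩
  rw [hv0, map_zero] at hv
  exact Additive.ofMul.injective (neg_add_eq_zero.1 hv.symm)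

end Groth.Agent.OneMotFaithLib
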