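import Groth.Agent.GenSubLib.Torus
import Groth.Agent.GenSubLib.AlgClosed
import Groth.Agent.WeilAVLib.Dense
import Groth.Agent.DSHomField.Main
import Groth.Prelude.Def_CGrpSh

/-!
# Points over algebraically closed fields
-/

set_option autoImplicit false
set_option backward.isDefEq.respectTransparency false
set_option linter.style.haveILetI false

universe u

open CategoryTheory CategoryTheory.Limits MonoidalCategory CartesianMonoidalCategory MonObj AlgebraicGeometry Opposite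

noncomputable section

namespace Groth.Agent.OneMotFaithLib

variable {k : Type u} [Field k] [IsAlgClosed k]

/-- A covering sieve of the base contains the identity. -/
theorem id_mem {R : Sieve (𝟙_ (Over (Spec (CommRingCat.of k))))}
    (hR : R ∈ QuotSh.J Scheme.fppfPrecoverage (Spec (CommRingCat.of k)) (𝟙_ (Over (Spec (CommRingCat.of k))))) :
    R (𝟙 _) := by
  have hR' : Sieve.overEquiv _ R ∈ Scheme.fppfPrecoverage.toGrothendieck
      (𝟙_ (Over (Spec (CommRingCat.of k)))).left := (GrothendieckTopology.mem_over_iff _ R).1 hR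
  obtain ⟨R₀, hR₀, hle⟩ := Precoverage.mem_toGrothendieck_iff_of_isStableUnderComposition.1 hR'
  obtain ⟨J, X, f, rfl⟩ := Presieve.exists_eq_ofArrows R₀
  rw [show Scheme.fppfPrecoverage = Scheme.precoverage (@Flat ⊓ @LocallyOfFinitePresentation) from rfl,
    Scheme.ofArrows_mem_precoverage_iff] at hR₀
  obtain ⟨i, x, -⟩ := hR₀.1 (IsLocalRing.closedPoint k)
  haveI : LocallyOfFinitePresentation (f i) := (hR₀.2 i).2
  let P : Over (Spec (CommRingCat.of k)) := Over.mk (f i)
  haveI : LocallyOfFiniteType P.hom := inferInstanceAs (LocallyOfFiniteType (f i))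
  haveI : JacobsonSpace P.left := LocallyOfFiniteType.jacobsonSpace P.hom
  obtain ⟨z, -, hz⟩ := nonempty_inter_closedPoints (Z := (Set.univ : Set P.left)) ⟨x, trivial⟩ isOpen_univ.isLocallyClosed
  obtain ⟨t, -⟩ := GenSubLib.exists_pt (P := P) hz
  have hmem : (Sieve.overEquiv _ R) (t.left ≫ f i) := (Sieve.overEquiv _ R).downward_closed (hle _ _ ⟨i⟩) _
  rw [show t.left ≫ f i = 𝟙 _ from Over.w t] at hmem
  have h2 := (Sieve.overEquiv_iff _ _).1 hmem
  have hid : (Over.homMk (𝟙 _) rfl : Over.mk (𝟙 _ ≫ (𝟙_ (Over (Spec (CommRingCat.of k)))).hom) ⟶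
      𝟙_ (Over (Spec (CommRingCat.of k)))) = Over.homMk (𝟙 _) rfl := rfl
  let j : 𝟙_ (Over (Spec (CommRingCat.of k))) ⟶ Over.mk (𝟙 _ ≫ (𝟙_ (Over (Spec (CommRingCat.of k)))).hom) :=
    Over.homMk (𝟙 _) (by show 𝟙 _ ≫ 𝟙 _ ≫ 𝟙 _ = 𝟙 _; simp)
  have h3 := R.downward_closed h2 j
  convert h3 using 2
  exact (Over.OverMorphism.ext (Category.id_comp _)).symm

omit [IsAlgClosed k] in
/-- Agreement on a dense family of rational points. -/
theorem hom_ext_dense {X Y : Over (Spec (CommRingCat.of k))} [IsReduced X.left] [IsSeparated Y.hom]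
    (S : Set (𝟙_ (Over (Spec (CommRingCat.of k))) ⟶ X)) (hS : Dense (⋃ x ∈ S, Set.range x.left.base)) {a b : X ⟶ Y}
    (h : ∀ x ∈ S, x ≫ a = x ≫ b) : a = b := by
  let j : ∐ (fun _ : S => Spec (CommRingCat.of k)) ⟶ X.left := Sigma.desc fun x => x.1.left
  haveI : IsDominant j := ⟨hS.mono fun p hp => by
    simp only [Set.mem_iUnion] at hp
    obtain ⟨x, hx, t, rfl⟩ := hp
    refine ⟨(Sigma.ι (fun _ : S => Spec (CommRingCat.of k)) ⟨x, hx⟩) t, ?_⟩
    rw [← Scheme.Hom.comp_apply, Sigma.ι_desc]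
    rfl⟩
  refine Over.OverMorphism.ext (ext_of_isDominant_of_isSeparated Y.hom ((Over.w a).trans (Over.w b).symm) j ?_)
  refine Sigma.hom_ext _ _ fun x => ?_
  rw [Sigma.ι_desc_assoc, Sigma.ι_desc_assoc]
  exact congrArg CommaMorphism.left (h x.1 x.2)

/-- A homomorphism of tori killing the torsion points is trivial. -/
theorem torus_hom_eq_one {T T' : Over (Spec (CommRingCat.of k))} [GrpObj T] [GrpObj T'] (hT : Red.IsTorus T)
    (hT' : Red.IsTorus T') [CharZero k] (u : T ⟶ T') [IsMonHom u]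
    (h : ∀ (n : ℕ), 0 < n → ∀ x : 𝟙_ (Over (Spec (CommRingCat.of k))) ⟶ T, x ^ n = 1 → x ≫ u = 1) : u = 1 := by
  obtain ⟨r, ⟨e⟩⟩ := GenSubLib.exists_split_of_isTorus hT
  obtain ⟨r', ⟨e'⟩⟩ := GenSubLib.exists_split_of_isTorus hT'
  haveI : IsMonHom e.inv.hom.hom := e.inv.hom.isMonHom_hom
  haveI : IsMonHom e'.hom.hom.hom := e'.hom.hom.isMonHom_hom
  haveI : IsMonHom e'.inv.hom.hom := e'.inv.hom.isMonHom_hom
  let M := Fin r → ℤ
  let N := Fin r' → ℤ
  let v : Red.DS (Spec (CommRingCat.of k)) M ⟶ Red.DS (Spec (CommRingCat.of k)) N :=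
    e.inv.hom.hom ≫ u ≫ e'.hom.hom.hom
  obtain ⟨φ, hφ⟩ := DSHomField.exists_char (DSHomField.dsPts k M) (DSHomField.dsPts k N) v
  have hφ0 : φ = 0 := by
    ext m i
    by_contra hne
    let a : ℤ := φ (Pi.single m 1) i
    have ha : a ≠ 0 := fun h0 => hne h0
    haveI : NeZero (a.natAbs + 1) := ⟨Nat.succ_ne_zero _⟩
    obtain ⟨ζ, hζ⟩ := HasEnoughRootsOfUnity.exists_primitiveRoot k (a.natAbs + 1)
    let z : kˣ := (hζ.isUnit (Nat.succ_ne_zero _)).unit
    let g : Multiplicative M →* kˣ :=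
      AddMonoidHom.toMultiplicativeLeft ((zmultiplesHom (Additive kˣ) (Additive.ofMul z)).comp
        (Pi.evalAddMonoidHom (fun _ : Fin r => ℤ) i))
    have hg : ∀ x : M, g (Multiplicative.ofAdd x) = z ^ (x i) := fun x => rfl
    let χ : Multiplicative M →* k := (Units.coeHom k).comp g
    let d := DSMapLib.dsPt (S := Spec (CommRingCat.of k)) (B := CommRingCat.of k) M (𝟙 (Spec (CommRingCat.of k)))
    have hpow : d χ ^ (a.natAbs + 1) = 1 := by
      rw [← map_pow, ← map_one d]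
      refine congrArg d (MonoidHom.ext fun x => ?_)
      show ((g x : kˣ) : k) ^ (a.natAbs + 1) = 1
      rw [← Units.val_pow_eq_pow_val, ← ofAdd_toAdd x, hg, ← zpow_natCast, ← zpow_mul,
        mul_comm, zpow_mul, zpow_natCast]
      rw [show z ^ (a.natAbs + 1) = 1 from Units.ext (by rw [Units.val_pow_eq_pow_val]; exact hζ.pow_eq_one)]
      rw [one_zpow, Units.val_one]
    have hx : (d χ ≫ e.inv.hom.hom) ^ (a.natAbs + 1) = 1 := by
      rw [← MonObj.pow_comp, hpow, MonObj.one_comp]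
    have h1 := h _ (Nat.succ_pos _) _ hx
    have h2 : d χ ≫ v = 1 := by
      show d χ ≫ e.inv.hom.hom ≫ u ≫ e'.hom.hom.hom = 1
      rw [← Category.assoc, ← Category.assoc (d χ ≫ e.inv.hom.hom)]
      refine (congrArg (· ≫ e'.hom.hom.hom) h1).trans ?_
      exact MonObj.one_comp _
    rw [show d χ = (DSHomField.dsPts k M).pt _ _ χ from rfl, hφ] at h2
    have h3 := DFunLike.congr_fun ((MulEquiv.injective _) (h2.trans (map_one _).symm))
      (Multiplicative.ofAdd (Pi.single m (1 : ℤ)))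
    have h4 : z ^ a = 1 := Units.ext (show ((g (Multiplicative.ofAdd (φ (Pi.single m 1))) : kˣ) : k) = 1 from h3)
    have h5 : ((a.natAbs + 1 : ℕ) : ℤ) ∣ a := by
      have := (hζ.isUnit_unit (Nat.succ_ne_zero _)).zpow_eq_one_iff_dvd a
      exact this.1 h4
    have h6 := Int.natAbs_dvd_natAbs.2 h5
    rw [Int.natAbs_natCast] at h6
    exact absurd (Nat.le_of_dvd (Int.natAbs_pos.2 ha) h6) (by omega)
  have hv : v = 1 := by
    refine FixedSmooth.hom_ext_affine _ _ fun B q x => ?_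
    obtain ⟨χ, rfl⟩ := ((DSHomField.dsPts k M).pt B q).surjective x
    rw [hφ, MonObj.comp_one, ← map_one ((DSHomField.dsPts k N).pt B q)]
    refine congrArg _ (MonoidHom.ext fun y => ?_)
    simp [hφ0]
  let c : T ≅ Red.DS (Spec (CommRingCat.of k)) M := (Grp.forget _).mapIso e
  let c' : T' ≅ Red.DS (Spec (CommRingCat.of k)) N := (Grp.forget _).mapIso e'
  have hu : u = c.hom ≫ v ≫ c'.inv := by
    show u = c.hom ≫ (c.inv ≫ u ≫ c'.hom) ≫ c'.inv
    simp
  rw [hu, hv, MonObj.comp_one_assoc]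
  exact MonObj.one_comp e'.inv.hom.hom

end Groth.Agent.OneMotFaithLib
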