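import Groth.Agent.OneMotFaithLib.Points
import Mathlib.GroupTheory.FiniteAbelian.Duality
import Mathlib.RingTheory.Finiteness.Nakayama

/-!
# Torsion points of tori over algebraically closed fields of characteristic zero
-/

set_option autoImplicit false
set_option backward.isDefEq.respectTransparency false
set_option linter.style.haveILetI false

universe u

open CategoryTheory CategoryTheory.Limits MonoidalCategory CartesianMonoidalCategory MonObj AlgebraicGeometry

noncomputable section

namespace Groth.Agent.OneMotFaithLib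

variable {k : Type u} [Field k] [IsAlgClosed k] [CharZero k]

/-- Characters of finite order separate lattice vectors. -/
theorem exists_torsion_char {r : ℕ} {v : Fin r → ℤ} (hv : v ≠ 0) :
    ∃ (n : ℕ) (g : Multiplicative (Fin r → ℤ) →* kˣ), 0 < n ∧ (∀ x, g x ^ n = 1) ∧ g (Multiplicative.ofAdd v) ≠ 1 := by
  obtain ⟨i, hi⟩ : ∃ i, v i ≠ 0 := Function.ne_iff.1 hv
  haveI : NeZero ((v i).natAbs + 1) := ⟨Nat.succ_ne_zero _⟩
  obtain ⟨ζ, hζ⟩ := HasEnoughRootsOfUnity.exists_primitiveRoot k ((v i).natAbs + 1)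
  let z : kˣ := (hζ.isUnit (Nat.succ_ne_zero _)).unit
  have hz : z ^ ((v i).natAbs + 1) = 1 := Units.ext (by rw [Units.val_pow_eq_pow_val]; exact hζ.pow_eq_one)
  let g : Multiplicative (Fin r → ℤ) →* kˣ :=
    AddMonoidHom.toMultiplicativeLeft ((zmultiplesHom (Additive kˣ) (Additive.ofMul z)).comp
      (Pi.evalAddMonoidHom (fun _ : Fin r => ℤ) i))
  have hg : ∀ x : Fin r → ℤ, g (Multiplicative.ofAdd x) = z ^ (x i) := fun x => rfl
  refine ⟨(v i).natAbs + 1, g, Nat.succ_pos _, fun x => ?_, fun h => ?_⟩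
  · rw [← ofAdd_toAdd x, hg, ← zpow_natCast, ← zpow_mul, mul_comm, zpow_mul, zpow_natCast, hz, one_zpow]
  · rw [hg] at h
    have h5 : (((v i).natAbs + 1 : ℕ) : ℤ) ∣ v i :=
      ((hζ.isUnit_unit (Nat.succ_ne_zero _)).zpow_eq_one_iff_dvd (v i)).1 h
    have h6 := Int.natAbs_dvd_natAbs.2 h5
    rw [Int.natAbs_natCast] at h6
    exact absurd (Nat.le_of_dvd (Int.natAbs_pos.2 hi) h6) (by omega)

/-- The finite order characters of a lattice, as a submonoid. -/
def torChar (k : Type u) [Field k] (r : ℕ) : Submonoid (Multiplicative (Fin r → ℤ) →* k) where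
  carrier := {χ | ∃ n : ℕ, 0 < n ∧ χ ^ n = 1}
  one_mem' := ⟨1, Nat.one_pos, one_pow 1⟩
  mul_mem' := by
    rintro a b ⟨m, hm, hm'⟩ ⟨n, hn, hn'⟩
    exact ⟨m * n, Nat.mul_pos hm hn, by
      rw [_root_.mul_pow, pow_mul, hm', one_pow, _root_.one_mul, mul_comm m n, pow_mul, hn', one_pow]⟩

/-- Evaluations at torsion characters are jointly injective on the group algebra. -/
theorem eq_zero_of_eval {r : ℕ} (a : MonoidAlgebra k (Multiplicative (Fin r → ℤ)))
    (h : ∀ χ ∈ torChar k r, FixedSmooth.L (RingHom.id k) χ a = 0) : a = 0 := by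
  let ev : Multiplicative (Fin r → ℤ) → (torChar k r →* k) := fun m =>
    { toFun := fun χ => χ.1 m
      map_one' := rfl
      map_mul' := fun _ _ => rfl }
  have hev : Function.Injective ev := fun m m' e => by
    by_contra hne
    obtain ⟨n, g, hn, hg, hgv⟩ := exists_torsion_char (k := k) (v := Multiplicative.toAdd (m / m'))
      (fun h0 => hne (div_eq_one.1 (Multiplicative.toAdd.injective h0)))
    have hmem : (Units.coeHom k).comp g ∈ torChar k r := ⟨n, hn, MonoidHom.ext fun x => by
      show ((g x : kˣ) : k) ^ n = 1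
      rw [← Units.val_pow_eq_pow_val, hg, Units.val_one]⟩
    refine hgv ?_
    rw [ofAdd_toAdd, map_div]
    exact div_eq_one.2 (Units.ext (DFunLike.congr_fun e ⟨_, hmem⟩))
  have hli := ((linearIndependent_monoidHom (torChar k r) k).comp ev hev)
  have hsum : Finsupp.linearCombination k (fun m => ((ev m : torChar k r →* k) : torChar k r → k))
      (MonoidAlgebra.coeff a) = 0 := by
    funext χ
    rw [Finsupp.linearCombination_apply, Finsupp.sum, Finset.sum_apply]
    refine Eq.trans ?_ (h χ.1 χ.2)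
    rw [show FixedSmooth.L (RingHom.id k) χ.1 a = a.coeff.sum (fun m c => c * χ.1 m) from ?_]
    · rfl
    · conv_lhs => rw [← MonoidAlgebra.sum_coeff_single a]
      rw [map_finsuppSum]
      exact Finsupp.sum_congr fun m _ => FixedSmooth.L_single _ _ _ _
  have h0 := linearIndependent_iff.1 hli _ hsum
  exact MonoidAlgebra.coeff_injective h0

/-- Torsion points of a torus are dense. -/
theorem dense_torsion_torus {T : Over (Spec (CommRingCat.of k))} [GrpObj T] (hT : Red.IsTorus T) :
    Dense (⋃ x ∈ {x : 𝟙_ (Over (Spec (CommRingCat.of k))) ⟶ T | ∃ n, 0 < n ∧ x ^ n = 1}, Set.range x.left.base) := by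
  obtain ⟨r, ⟨e⟩⟩ := GenSubLib.exists_split_of_isTorus hT
  haveI : IsMonHom e.inv.hom.hom := e.inv.hom.isMonHom_hom
  let M := Fin r → ℤ
  let A := MonoidAlgebra k (Multiplicative M)
  let σ := DSHomField.dsPts k M
  let Pu := σ.pt (CommRingCat.of A) (Spec.map (DSHomField.gk k M)) (DSHomField.univChar k M)
  let c : T ≅ Red.DS (Spec (CommRingCat.of k)) M := (Grp.forget _).mapIso e
  let π : Spec (CommRingCat.of A) ⟶ T.left := Pu.left ≫ c.inv.left
  haveI : LocallyOfFiniteType T.hom := by
    obtain ⟨_, _, _, -⟩ := GenSubLib.torus_props hT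
    infer_instance
  -- every rational point comes from a character
  have hpt : ∀ χ : Multiplicative M →* k, ∀ t,
      (σ.pt (CommRingCat.of k) (𝟙 _) χ ≫ e.inv.hom.hom).left t =
        π (Spec.map (CommRingCat.ofHom (FixedSmooth.L (RingHom.id k) χ)) t) := by
    intro χ t
    let g : CommRingCat.of A ⟶ CommRingCat.of k := CommRingCat.ofHom (FixedSmooth.L (RingHom.id k) χ)
    have hq : Spec.map g ≫ Spec.map (DSHomField.gk k M) = 𝟙 _ := by
      rw [← Spec.map_comp, show DSHomField.gk k M ≫ g = 𝟙 _ from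
        CommRingCat.hom_ext (FixedSmooth.L_comp_single _ _), Spec.map_id]
    have hn := congrArg CommaMorphism.left (σ.nat _ _ (Spec.map (DSHomField.gk k M)) g (DSHomField.univChar k M))
    have hχ : g.hom.toMonoidHom.comp (DSHomField.univChar k M) = χ := FixedSmooth.L_comp_of _ _
    rw [hχ] at hn
    have hn' : (σ.pt (CommRingCat.of k) (𝟙 _) χ).left = Spec.map g ≫ Pu.left := by
      refine Eq.trans ?_ hn.symm
      clear hn
      generalize Spec.map g ≫ Spec.map (DSHomField.gk k M) = q at hq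
      subst hq
      rfl
    show ((σ.pt (CommRingCat.of k) (𝟙 _) χ).left ≫ c.inv.left) t = _
    rw [hn', Category.assoc]
    rfl
  -- torsion evaluations are dense
  let E : Set (Spec (CommRingCat.of A)) :=
    ⋃ χ ∈ torChar k r, Set.range (Spec.map (CommRingCat.ofHom (FixedSmooth.L (RingHom.id k) χ))).base
  have hE : Dense E := by
    rw [dense_iff_closure_eq, ← PrimeSpectrum.zeroLocus_vanishingIdeal_eq_closure]
    have hbot : PrimeSpectrum.vanishingIdeal (E : Set (PrimeSpectrum A)) = ⊥ := by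
      refine le_bot_iff.1 fun a ha => ?_
      refine Ideal.mem_bot.2 (eq_zero_of_eval a fun χ hχ => ?_)
      have h1 := (PrimeSpectrum.mem_vanishingIdeal _ _).1 ha
        ((Spec.map (CommRingCat.ofHom (FixedSmooth.L (RingHom.id k) χ))).base (IsLocalRing.closedPoint k))
        (Set.mem_iUnion₂.2 ⟨χ, hχ, _, rfl⟩)
      have h2 : FixedSmooth.L (RingHom.id k) χ a ∈ IsLocalRing.maximalIdeal k := h1
      rwa [IsLocalRing.maximalIdeal_eq_bot, Ideal.mem_bot] at h2
    rw [hbot]
    exact PrimeSpectrum.zeroLocus_bot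
  have hπ : DenseRange π.base := by
    haveI : JacobsonSpace T.left := LocallyOfFiniteType.jacobsonSpace T.hom
    refine Dense.mono (fun z hz => ?_) (dense_iff_closure_eq.2 (closure_closedPoints (X := T.left)))
    obtain ⟨y, hy⟩ := GenSubLib.exists_pt (P := T) hz
    obtain ⟨χ, hχ⟩ := (σ.pt (CommRingCat.of k) (𝟙 _)).surjective (y ≫ c.hom)
    have hy' : σ.pt (CommRingCat.of k) (𝟙 _) χ ≫ e.inv.hom.hom = y := by
      rw [hχ]
      show (y ≫ c.hom) ≫ c.inv = y
      rw [Category.assoc, Iso.hom_inv_id, Category.comp_id]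
    rw [← hy, ← hy']
    exact ⟨_, (hpt χ _).symm⟩
  refine (hπ.dense_image π.continuous hE).mono ?_
  rintro _ ⟨_, hz, rfl⟩
  simp only [E, Set.mem_iUnion, Set.mem_range] at hz
  obtain ⟨χ, ⟨n, hn, hχn⟩, t, rfl⟩ := hz
  refine Set.mem_iUnion₂.2 ⟨σ.pt (CommRingCat.of k) (𝟙 _) χ ≫ e.inv.hom.hom, ⟨n, hn, ?_⟩, t, hpt χ t⟩
  exact ((MonObj.pow_comp _ n _).symm.trans (congrArg (· ≫ e.inv.hom.hom)
    ((map_pow _ χ n).symm.trans ((congrArg _ hχn).trans (map_one _))))).trans (MonObj.one_comp _)

end Groth.Agent.OneMotFaithLib
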