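import Groth.Agent.OneMotFaithLib.ExtProps
import Groth.Agent.OneMotFaithLib.TorusDense
import Groth.Agent.GrpQuotLib.KerGrp
import Groth.Agent.GrpHomLib.Field
import Groth.Agent.GrpSchLib.Cartier

/-!
# Isomorphisms of semi-abelian varieties detected on torsion points
-/

set_option autoImplicit false
set_option backward.isDefEq.respectTransparency false
set_option backward.isDefEq.respectTransparency.types false
set_option linter.style.haveILetI false

universe u

open CategoryTheory CategoryTheory.Limits MonoidalCategory CartesianMonoidalCategory MonObj AlgebraicGeometry Opposite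

noncomputable section

namespace Groth.Agent.OneMotFaithLib

variable {k : Type u} [Field k] [IsAlgClosed k] [CharZero k]

local notation "pt₀" => 𝟙_ (Over (Spec (CommRingCat.of k)))

/-- A nontrivial finitely generated abelian group has a nontrivial finite quotient. -/
theorem exists_finite_quotient (Q : Type) [AddCommGroup Q] [Module.Finite ℤ Q] [Nontrivial Q] :
    ∃ N : Submodule ℤ Q, N ≠ ⊤ ∧ Finite (Q ⧸ N) := by
  let I : Ideal ℤ := Ideal.span {2}
  by_cases h : (⊤ : Submodule ℤ Q) ≤ I • ⊤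
  · obtain ⟨r, hr, hr'⟩ := Submodule.exists_sub_one_mem_and_smul_eq_zero_of_fg_of_le_smul I ⊤ Module.Finite.fg_top h
    have hr0 : r ≠ 0 := by
      rintro rfl
      obtain ⟨c, hc⟩ := Ideal.mem_span_singleton'.1 hr
      omega
    haveI : Finite Q := Module.finite_of_fg_torsion Q fun {x} => ⟨⟨r, mem_nonZeroDivisors_of_ne_zero hr0⟩, hr' x trivial⟩
    exact ⟨⊥, bot_ne_top, Finite.of_surjective _ (Submodule.mkQ_surjective (⊥ : Submodule ℤ Q))⟩
  · refine ⟨I • ⊤, fun e => h e.ge, ?_⟩
    refine Module.finite_of_fg_torsion _ fun {x} => ⟨⟨(2 : ℤ), mem_nonZeroDivisors_of_ne_zero (by norm_num)⟩, ?_⟩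
    obtain ⟨q, rfl⟩ := Submodule.Quotient.mk_surjective _ x
    exact (Submodule.Quotient.mk_eq_zero _).2 (Submodule.smul_mem_smul (Ideal.mem_span_singleton_self 2) trivial)

set_option maxHeartbeats 1000000 in
/-- A homomorphism of tori injective on torsion points is injective on points. -/
theorem torus_hom_injective {T T' : Over (Spec (CommRingCat.of k))} [GrpObj T] [GrpObj T'] (hT : Red.IsTorus T)
    (hT' : Red.IsTorus T') (u : T ⟶ T') [IsMonHom u]
    (h : ∀ (n : ℕ), 0 < n → ∀ x : pt₀ ⟶ T, x ^ n = 1 → x ≫ u = 1 → x = 1)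
    (x : pt₀ ⟶ T) (hx : x ≫ u = 1) : x = 1 := by
  obtain ⟨r, ⟨e⟩⟩ := GenSubLib.exists_split_of_isTorus hT
  obtain ⟨r', ⟨e'⟩⟩ := GenSubLib.exists_split_of_isTorus hT'
  haveI : IsMonHom e.inv.hom.hom := e.inv.hom.isMonHom_hom
  haveI : IsMonHom e.hom.hom.hom := e.hom.hom.isMonHom_hom
  haveI : IsMonHom e'.hom.hom.hom := e'.hom.hom.isMonHom_hom
  haveI : IsMonHom e'.inv.hom.hom := e'.inv.hom.isMonHom_hom
  let c : T ≅ Red.DS (Spec (CommRingCat.of k)) (Fin r → ℤ) := (Grp.forget _).mapIso e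
  let c' : T' ≅ Red.DS (Spec (CommRingCat.of k)) (Fin r' → ℤ) := (Grp.forget _).mapIso e'
  let σ := DSHomField.dsPts k (Fin r → ℤ)
  let τ := DSHomField.dsPts k (Fin r' → ℤ)
  let v : Red.DS (Spec (CommRingCat.of k)) (Fin r → ℤ) ⟶ Red.DS (Spec (CommRingCat.of k)) (Fin r' → ℤ) :=
    e.inv.hom.hom ≫ u ≫ e'.hom.hom.hom
  obtain ⟨φ, hφ⟩ := DSHomField.exists_char σ τ v
  let d := σ.pt (CommRingCat.of k) (𝟙 (Spec (CommRingCat.of k)))
  let d' := τ.pt (CommRingCat.of k) (𝟙 (Spec (CommRingCat.of k)))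
  have hker : ∀ χ, (d χ ≫ e.inv.hom.hom) ≫ u = 1 ↔ χ.comp φ.toMultiplicative = 1 := fun χ => by
    have e1 : ((d χ ≫ e.inv.hom.hom) ≫ u) ≫ e'.hom.hom.hom = d' (χ.comp φ.toMultiplicative) := by
      rw [← hφ]
      simp only [v, Category.assoc]
      rfl
    constructor
    · intro h0
      rw [h0] at e1
      exact d'.injective (e1.symm.trans ((MonObj.one_comp _).trans d'.map_one.symm))
    · intro h0
      rw [h0] at e1
      refine (Iso.cancel_iso_hom_right _ _ c').1 ?_
      haveI : IsMonHom c'.hom := e'.hom.hom.isMonHom_hom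
      have h5 : d' 1 = (1 : pt₀ ⟶ Red.DS (Spec (CommRingCat.of k)) (Fin r' → ℤ)) := d'.map_one
      exact (e1.trans h5).trans (MonObj.one_comp c'.hom).symm
  have hsurj : Function.Surjective φ := by
    by_contra hns
    let R : Submodule ℤ (Fin r → ℤ) := LinearMap.range φ.toIntLinearMap
    haveI : Nontrivial ((Fin r → ℤ) ⧸ R) := Submodule.Quotient.nontrivial_iff.2 fun e => hns fun y => by
      have : y ∈ R := e ▸ Submodule.mem_top
      exact this
    obtain ⟨N, hN, hfin⟩ := exists_finite_quotient ((Fin r → ℤ) ⧸ R)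
    obtain ⟨q, hq⟩ : ∃ q, q ∉ N := by
      by_contra hall
      push Not at hall
      exact hN (eq_top_iff.2 fun y _ => hall y)
    let F := Multiplicative (((Fin r → ℤ) ⧸ R) ⧸ N)
    have hq' : (Multiplicative.ofAdd (Submodule.Quotient.mk q : ((Fin r → ℤ) ⧸ R) ⧸ N) : F) ≠ 1 := fun e =>
      hq ((Submodule.Quotient.mk_eq_zero _).1 (Multiplicative.ofAdd.injective e))
    haveI : Finite F := hfin
    obtain ⟨ψ, hψ⟩ := CommGroup.exists_apply_ne_one_of_hasEnoughRootsOfUnity F k hq'
    let π : (Fin r → ℤ) →+ ((Fin r → ℤ) ⧸ R) ⧸ N := (N.mkQ.comp R.mkQ).toAddMonoidHom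
    let g : Multiplicative (Fin r → ℤ) →* k := (Units.coeHom k).comp (ψ.comp π.toMultiplicative)
    have hgφ : g.comp φ.toMultiplicative = 1 := MonoidHom.ext fun y => by
      have h0 : R.mkQ (φ (Multiplicative.toAdd y)) = 0 := (Submodule.Quotient.mk_eq_zero _).2 ⟨_, rfl⟩
      show ((ψ (Multiplicative.ofAdd (N.mkQ (R.mkQ (φ (Multiplicative.toAdd y))))) : kˣ) : k) = 1
      rw [h0, map_zero, ofAdd_zero, map_one, Units.val_one]
    obtain ⟨n, hn, hn'⟩ : ∃ n, 0 < n ∧ g ^ n = 1 := ⟨Nat.card F, Nat.card_pos, MonoidHom.ext fun y => by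
      show ((ψ (π.toMultiplicative y) : kˣ) : k) ^ Nat.card F = 1
      rw [← Units.val_pow_eq_pow_val, ← map_pow, pow_card_eq_one', map_one, Units.val_one]⟩
    have h1 : d g ≫ e.inv.hom.hom = 1 := h n hn _
      (by rw [← MonObj.pow_comp, ← map_pow, hn', map_one, MonObj.one_comp]) ((hker g).2 hgφ)
    have h2 : d g = d 1 := by
      refine (Iso.cancel_iso_inv_right _ _ c).1 ?_
      exact h1.trans (((congrArg (· ≫ e.inv.hom.hom) d.map_one).trans (MonObj.one_comp _)).symm)
    obtain ⟨y, rfl⟩ := Submodule.Quotient.mk_surjective R q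
    exact hψ (Units.ext (DFunLike.congr_fun (d.injective h2) (Multiplicative.ofAdd y)))
  obtain ⟨χ, hχ⟩ := d.surjective (x ≫ e.hom.hom.hom)
  have hx' : d χ ≫ e.inv.hom.hom = x := by
    rw [hχ]
    show (x ≫ c.hom) ≫ c.inv = x
    rw [Category.assoc, Iso.hom_inv_id, Category.comp_id]
  have h3 := (hker χ).1 (by rw [hx']; exact hx)
  have h4 : χ = 1 := MonoidHom.ext fun y => by
    obtain ⟨z, hz⟩ := hsurj (Multiplicative.toAdd y)
    have := DFunLike.congr_fun h3 (Multiplicative.ofAdd z)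
    rw [← ofAdd_toAdd y, ← hz]
    exact this
  rw [← hx', h4, d.map_one]
  exact MonObj.one_comp _

set_option maxHeartbeats 1000000 in
/-- A homomorphism of semi-abelian varieties which is bijective on torsion points is an isomorphism. -/
theorem isIso_of_torsion {T G A T' G' A' : Over (Spec (CommRingCat.of k))}
    [GrpObj T] [IsCommMonObj T] [GrpObj G] [IsCommMonObj G] [GrpObj A] [IsCommMonObj A]
    [GrpObj T'] [IsCommMonObj T'] [GrpObj G'] [IsCommMonObj G'] [GrpObj A'] [IsCommMonObj A']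
    {i : T ⟶ G} {p : G ⟶ A} [IsMonHom i] [IsMonHom p] (hG : OneMot.IsSemiAbWith T G A i p)
    {i' : T' ⟶ G'} {p' : G' ⟶ A'} [IsMonHom i'] [IsMonHom p'] (hG' : OneMot.IsSemiAbWith T' G' A' i' p')
    (E : G ⟶ G') [IsMonHom E] (hinj : ∀ n : ℕ, 0 < n → ∀ x : pt₀ ⟶ G, x ^ n = 1 → x ≫ E = 1 → x = 1)
    (hsur : ∀ n : ℕ, 0 < n → ∀ y : pt₀ ⟶ G', y ^ n = 1 → ∃ x, x ≫ E = y) : IsIso E := by
  obtain ⟨-, -, hGs, hGq, hGr, hGc⟩ := props hG
  obtain ⟨-, -, hGs', hGq', hGr', hGc'⟩ := props hG'
  obtain ⟨hT, hA, w, hex⟩ := hG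
  obtain ⟨hT', hA', w', hex'⟩ := hG'
  haveI := hA.smooth
  haveI := hA.proper
  haveI := hA'.smooth
  haveI := hA'.proper
  haveI : LocallyOfFiniteType G.hom := inferInstance
  haveI : LocallyOfFiniteType G'.hom := inferInstance
  haveI : IsSeparated G'.hom := GrpSchLib.isSeparated_hom
  haveI : IsSeparated A.hom := inferInstance
  haveI : QuasiCompact E.left := by
    haveI : QuasiCompact (E.left ≫ G'.hom) := by rw [Over.w E]; infer_instance
    exact QuasiCompact.of_comp E.left G'.hom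
  -- on tori
  obtain ⟨uT, huT⟩ := exists_fac w' hex' (i ≫ E) (by
    rw [Category.assoc]
    exact TorusAbTrivLib.hom_eq_one hT hA'.connectedFibres (i ≫ E ≫ p'))
  haveI : IsMonHom uT :=
    { one_hom := incl_injective w' hex' (by
        rw [Category.assoc, huT]
        exact (IsMonHom.one_hom (f := i ≫ E)).trans (IsMonHom.one_hom (f := i')).symm)
      mul_hom := incl_injective w' hex' (by
        rw [Category.assoc, huT, Category.assoc, IsMonHom.mul_hom (f := i'), tensorHom_comp_tensorHom_assoc, huT]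
        exact IsMonHom.mul_hom (f := i ≫ E)) }
  have hTinj : ∀ t : pt₀ ⟶ T, (t ≫ i) ≫ E = 1 → t = 1 := fun t ht => by
    refine torus_hom_injective hT hT' uT (fun n hn z hz hz' => incl_injective w hex ?_) t
      (incl_injective w' hex' (by rw [Category.assoc, huT, ← Category.assoc, ht, MonObj.one_comp]))
    rw [MonObj.one_comp]
    refine hinj n hn (z ≫ i) (by rw [← MonObj.pow_comp, hz, MonObj.one_comp]) ?_
    rw [Category.assoc, ← huT, ← Category.assoc, hz', MonObj.one_comp]
  -- the kernel and its image in the abelian variety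
  obtain ⟨hHg, hHm⟩ := GrpQuotLib.exists_grpObj_kernel E
  let H : Over (Spec (CommRingCat.of k)) := pullback E η[G']
  letI : GrpObj H := hHg
  let jH : H ⟶ G := pullback.fst E η[G']
  haveI : IsMonHom jH := hHm
  haveI : Mono η[G'] := SplitMono.mono ⟨toUnit G', toUnit_unique _ _⟩
  haveI : Mono jH := inferInstanceAs (Mono (pullback.fst E η[G']))
  have hjE : jH ≫ E = 1 := by
    rw [Hom.one_def, toUnit_unique (toUnit H) (pullback.snd E η[G'])]
    exact pullback.condition
  haveI : IsClosedImmersion jH.left := by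
    haveI : IsClosedImmersion ((Over.forget _).map η[G']) := GrpSchLib.isClosedImmersion_unit
    exact MorphismProperty.of_isPullback (P := @IsClosedImmersion)
      ((IsPullback.of_hasPullback E η[G']).map (Over.forget _)).flip inferInstance
  haveI : LocallyOfFiniteType H.hom := by rw [← Over.w jH]; infer_instance
  haveI : QuasiCompact H.hom := by rw [← Over.w jH]; infer_instance
  haveI : IsMonHom (jH ≫ p) := inferInstance
  haveI : QuasiCompact (jH ≫ p).left := by
    haveI : QuasiCompact ((jH ≫ p).left ≫ A.hom) := by rw [Over.w (jH ≫ p)]; infer_instance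
    exact QuasiCompact.of_comp (jH ≫ p).left A.hom
  obtain ⟨C, hC, q, j, hq, hj, hqj, -, hqs, -, hCl, hjc, -⟩ := GrpHomLib.exists_factor (jH ≫ p)
  letI := hC
  haveI := hq; haveI := hj; haveI := hqs; haveI := hCl; haveI := hjc
  haveI : Mono j := (Over.forget _).mono_of_mono_map (show Mono j.left by infer_instance)
  haveI : IsProper C.hom := by rw [← Over.w j]; infer_instance
  have hkill : ∀ (m : ℕ), 0 < m → ∀ z : pt₀ ⟶ H, (z ≫ q) ^ m = 1 → z ≫ jH = 1 := fun m hm z hz => by
    have h1 : ((z ≫ jH) ^ m) ≫ p = 1 := by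
      rw [← MonObj.pow_comp, show ((z ^ m) ≫ jH) ≫ p = ((z ^ m) ≫ q) ≫ j by
        rw [Category.assoc, Category.assoc, hqj], MonObj.pow_comp, hz, MonObj.one_comp]
    obtain ⟨t, ht⟩ := exists_fac w hex _ h1
    have h2 : t = 1 := hTinj t (by
      rw [ht, ← MonObj.pow_comp, Category.assoc, hjE, MonObj.comp_one])
    refine hinj m hm _ ?_ (by rw [Category.assoc, hjE, MonObj.comp_one])
    rw [← ht, h2, MonObj.one_comp]
  have hqsur : ∀ y : pt₀ ⟶ C, ∃ z : pt₀ ⟶ H, z ≫ q = y := fun y =>
    GenSubLib.exists_pt_lift q y (hqs.surj _)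
  obtain ⟨N, hN, iN, hiN, hiNc, hNp, hNg, hNr⟩ := AVLib.exists_idSubgroup (G := C)
  letI := hN
  haveI := hiN; haveI := hiNc; haveI := hNp; haveI := hNg
  haveI : IsCommMonObj N := isCommMonObj_of_isProper_of_geometricallyIntegral N
  haveI : Fact (Nat.Prime 2) := ⟨Nat.prime_two⟩
  haveI : Mono iN := (Over.forget _).mono_of_mono_map (show Mono iN.left by infer_instance)
  have hl : ((2 : ℕ) : k) ≠ 0 := Nat.cast_ne_zero.2 two_ne_zero
  have hNtor : ∀ (m : ℕ) (y : pt₀ ⟶ N), y ^ 2 ^ m = 1 → y = 1 := fun m y hy => by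
    obtain ⟨z, hz⟩ := hqsur (y ≫ iN)
    have h1 := hkill (2 ^ m) (by positivity) z (by rw [hz, ← MonObj.pow_comp, hy, MonObj.one_comp])
    have h2 : (y ≫ iN) ≫ j = 1 := by
      rw [← hz, Category.assoc, hqj, ← Category.assoc, h1, MonObj.one_comp]
    have h3 : y ≫ iN = 1 := (cancel_mono j).1 (h2.trans (MonObj.one_comp j).symm)
    exact (cancel_mono iN).1 (h3.trans (MonObj.one_comp iN).symm)
  have hNpt : ∀ v : N.left, v = (1 : pt₀ ⟶ N).left GenSubLib.base₀ := fun v => by
    have h1 : closure ({(1 : pt₀ ⟶ N).left GenSubLib.base₀} : Set N.left) = Set.univ := by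
      refine dense_iff_closure_eq.1 ((WeilAVLib.dense_torsion N 2 hl).mono ?_)
      intro z hz
      simp only [Set.mem_iUnion] at hz
      obtain ⟨m, y, hy, t, rfl⟩ := hz
      rw [hNtor m y hy, Subsingleton.elim t GenSubLib.base₀]
      rfl
    rw [(GenSubLib.isClosed_pt (1 : pt₀ ⟶ N)).closure_eq] at h1
    exact Set.mem_singleton_iff.1 (h1.ge (Set.mem_univ v))
  obtain ⟨c, -, hc⟩ := AVLib.exists_pow_mem_idComp (G := C)
  have hker : ∀ x : pt₀ ⟶ G, x ≫ E = 1 → x = 1 := fun x hx => by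
    let z : pt₀ ⟶ H := pullback.lift x (toUnit _) (by rw [hx, Hom.one_def])
    have hz : z ≫ jH = x := pullback.lift_fst _ _ _
    obtain ⟨m, hm, -, hmem⟩ := hc (z ≫ q)
    rw [← hNr] at hmem
    obtain ⟨v, hv⟩ := hmem
    have hm1 : (z ≫ q) ^ m = 1 := by
      refine GenSubLib.pt_ext (hv.symm.trans ?_)
      rw [hNpt v, ← Scheme.Hom.comp_apply, ← Over.comp_left, MonObj.one_comp]
    rw [← hz]
    exact hkill m hm z hm1
  -- the kernel is trivial
  haveI : Smooth H.hom := GrpSchLib.smooth_of_charZero H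
  haveI : IsIso η[H] := by
    refine GenSubLib.isIso_unit_of_subsingleton fun z => ?_
    haveI : JacobsonSpace H.left := LocallyOfFiniteType.jacobsonSpace H.hom
    have hcp : closedPoints H.left ⊆ Set.range η[H].left := fun y hy => by
      obtain ⟨g, hg⟩ := GenSubLib.exists_pt (P := H) hy
      refine ⟨GenSubLib.base₀, ?_⟩
      rw [← hg, show η[H] = (1 : pt₀ ⟶ H) by simp [Hom.one_def]]
      exact congrArg (fun t : pt₀ ⟶ H => t.left GenSubLib.base₀) ((cancel_mono jH).1
        ((MonObj.one_comp jH).trans (hker (g ≫ jH) (by rw [Category.assoc, hjE, MonObj.comp_one])).symm))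
    haveI : IsClosedImmersion η[H].left := GrpSchLib.isClosedImmersion_unit
    exact closure_minimal hcp η[H].left.isClosedEmbedding.isClosed_range
      ((closure_closedPoints (X := H.left)).ge (Set.mem_univ z))
  haveI : Mono E := ⟨fun {U} a b hab => by
    letI : CommGroup (U ⟶ G) := Hom.commGroup
    have h1 : (a / b) ≫ E = 1 := by
      rw [div_eq_mul_inv, MonObj.mul_comp, GrpObj.inv_comp, hab, mul_inv_cancel]
    let z : U ⟶ H := pullback.lift (a / b) (toUnit _) (by rw [h1, Hom.one_def])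
    have hz : z ≫ jH = a / b := pullback.lift_fst _ _ _
    have hz1 : z = 1 := by
      rw [← Category.comp_id z, ← IsIso.inv_hom_id η[H], ← Category.assoc,
        toUnit_unique (z ≫ inv η[H]) (toUnit U), Hom.one_def]
    exact div_eq_one.1 (hz.symm.trans (by rw [hz1, MonObj.one_comp]))⟩
  -- surjectivity
  obtain ⟨C₂, hC₂, q₂, j₂, hq₂, hj₂, hqj₂, hf₂, hs₂, hqc₂, hl₂, hjc₂, -⟩ := GrpHomLib.exists_factor E
  letI := hC₂
  haveI := hq₂; haveI := hj₂; haveI := hf₂; haveI := hs₂; haveI := hqc₂; haveI := hl₂; haveI := hjc₂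
  have hR : IsClosed (Set.range E.left) := by
    rw [← hqj₂, Over.comp_left]
    show IsClosed (Set.range (fun x => j₂.left (q₂.left x)))
    rw [Set.range_comp' j₂.left q₂.left, hs₂.surj.range_eq, Set.image_univ]
    exact j₂.left.isClosedEmbedding.isClosed_range
  have hTim : ∀ t : pt₀ ⟶ T', ∃ x, x ≫ E = t ≫ i' := fun t => by
    refine GenSubLib.exists_pt_lift E (t ≫ i') ?_
    have hd : Dense (i'.left ⁻¹' Set.range E.left) := (dense_torsion_torus hT').mono fun z hz => by
      simp only [Set.mem_iUnion] at hz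
      obtain ⟨y, ⟨n, hn, hy⟩, t₀, rfl⟩ := hz
      obtain ⟨x, hx⟩ := hsur n hn (y ≫ i') (by rw [← MonObj.pow_comp, hy, MonObj.one_comp])
      refine ⟨x.left t₀, ?_⟩
      rw [← Scheme.Hom.comp_apply, ← Over.comp_left, hx]
      rfl
    exact (hR.preimage i'.left.continuous).closure_eq.le (hd (t.left GenSubLib.base₀))
  haveI : GeometricallyConnected A'.hom :=
    MonoFibre.geometricallyConnected_of_connected_fibres A'.hom η[A'].left (Over.w η[A']) hA'.connectedFibres
  haveI : GeometricallyIntegral A'.hom := AVLib.geometricallyIntegral_of_smooth A'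
  haveI : QuasiCompact (E ≫ p').left := by
    haveI : QuasiCompact ((E ≫ p').left ≫ A'.hom) := by rw [Over.w (E ≫ p')]; infer_instance
    exact QuasiCompact.of_comp (E ≫ p').left A'.hom
  obtain ⟨C₃, hC₃, q₃, j₃, -, -, hqj₃, -, hs₃, -, -, hjc₃, -⟩ := GrpHomLib.exists_factor (E ≫ p')
  haveI := hs₃; haveI := hjc₃
  have hR3 : IsClosed (Set.range (E ≫ p').left) := by
    rw [← hqj₃, Over.comp_left]
    show IsClosed (Set.range (fun x => j₃.left (q₃.left x)))
    rw [Set.range_comp' j₃.left q₃.left, hs₃.surj.range_eq, Set.image_univ]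
    exact j₃.left.isClosedEmbedding.isClosed_range
  have hAim : ∀ a : pt₀ ⟶ A', ∃ x, x ≫ E ≫ p' = a := fun a => by
    refine GenSubLib.exists_pt_lift (E ≫ p') a ?_
    have hd : Dense (Set.range (E ≫ p').left) := (WeilAVLib.dense_torsion A' 2 hl).mono fun z hz => by
      simp only [Set.mem_iUnion] at hz
      obtain ⟨m, y, hy, t₀, rfl⟩ := hz
      obtain ⟨g, hg⟩ := exists_lift w' hex' y
      obtain ⟨t, ht⟩ := exists_fac w' hex' (g ^ 2 ^ m) (by rw [MonObj.pow_comp, hg, hy])
      obtain ⟨s, hs⟩ := GenSubLib.exists_pow_eq hT' (n := 2 ^ m) (by positivity) t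
      letI : CommGroup (pt₀ ⟶ G') := Hom.commGroup
      obtain ⟨x, hx⟩ := hsur (2 ^ m) (by positivity) (g / (s ≫ i')) (by
        rw [div_pow, ← MonObj.pow_comp, hs, ht, div_self'])
      refine ⟨x.left t₀, ?_⟩
      rw [← Scheme.Hom.comp_apply, ← Over.comp_left, ← Category.assoc, hx, div_eq_mul_inv, MonObj.mul_comp,
        GrpObj.inv_comp, Category.assoc, w', MonObj.comp_one, inv_one, _root_.mul_one, hg]
    exact hR3.closure_eq.le (hd (a.left GenSubLib.base₀))
  haveI : Surjective E.left := ⟨fun z => by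
    haveI : JacobsonSpace G'.left := LocallyOfFiniteType.jacobsonSpace G'.hom
    have hcp : closedPoints G'.left ⊆ Set.range E.left := fun y hy => by
      obtain ⟨g, hg⟩ := GenSubLib.exists_pt (P := G') hy
      obtain ⟨x, hx⟩ := hAim (g ≫ p')
      letI : CommGroup (pt₀ ⟶ G') := Hom.commGroup
      obtain ⟨t, ht⟩ := exists_fac w' hex' (g / (x ≫ E)) (by
        rw [div_eq_mul_inv, MonObj.mul_comp, GrpObj.inv_comp, Category.assoc, hx, mul_inv_cancel])
      obtain ⟨x', hx'⟩ := hTim t
      refine ⟨(x' * x).left GenSubLib.base₀, ?_⟩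
      rw [← Scheme.Hom.comp_apply, ← Over.comp_left, MonObj.mul_comp, hx', ht, div_mul_cancel, hg]
    exact closure_minimal hcp hR ((closure_closedPoints (X := G'.left)).ge (Set.mem_univ z))⟩
  -- conclusion
  haveI := hGr'
  haveI : Surjective j₂.left := by
    haveI : Surjective (q₂.left ≫ j₂.left) := by rw [← Over.comp_left, hqj₂]; infer_instance
    exact Surjective.of_comp q₂.left j₂.left
  haveI : IsIso j₂.left := isIso_of_isClosedImmersion_of_surjective _
  haveI : Mono q₂ := by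
    haveI : Mono (q₂ ≫ j₂) := by rw [hqj₂]; infer_instance
    exact mono_of_mono q₂ j₂
  haveI : Mono q₂.left := inferInstance
  haveI : LocallyOfFinitePresentation q₂.left := by
    haveI : LocallyOfFiniteType (q₂.left ≫ C₂.hom) := by rw [Over.w q₂]; infer_instance
    haveI : IsLocallyNoetherian C₂.left := LocallyOfFiniteType.isLocallyNoetherian C₂.hom
    haveI : LocallyOfFiniteType q₂.left := locallyOfFiniteType_of_comp q₂.left C₂.hom
    infer_instance
  haveI : IsIso q₂.left := Flat.isIso_of_surjective_of_mono q₂.left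
  haveI : IsIso ((Over.forget _).map E) := by
    show IsIso E.left
    rw [← hqj₂, Over.comp_left]
    infer_instance
  exact isIso_of_reflects_iso E (Over.forget _)

end Groth.Agent.OneMotFaithLib
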